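import Groth.Agent.SchFinLib.Points
import Mathlib.RingTheory.Smooth.Fiber
import Mathlib.RingTheory.Flat.Localization
import Mathlib.RingTheory.LocalProperties.Submodule
import Mathlib.RingTheory.Kaehler.TensorProduct
import Mathlib.RingTheory.Flat.Stability

/-!
# Invariants of a finite family of endomorphisms of a finite étale algebra
-/

set_option autoImplicit false
set_option linter.style.haveILetI false

open TensorProduct

namespace SchFinLib

universe u

variable {R : Type u} [CommRing R] {A : Type u} [CommRing A] [Algebra R A] {ι : Type u}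
  (σ : ι → (A →ₐ[R] A))

/-- The subalgebra fixed by a family of endomorphisms. -/
def invSub : Subalgebra R A where
  carrier := {a | ∀ g, σ g a = a}
  mul_mem' {a b} ha hb g := by rw [map_mul, ha g, hb g]
  one_mem' g := map_one _
  add_mem' {a b} ha hb g := by rw [map_add, ha g, hb g]
  zero_mem' g := map_zero _
  algebraMap_mem' r g := (σ g).commutes r

theorem mem_invSub {a : A} : a ∈ invSub σ ↔ ∀ g, σ g a = a := Iff.rfl

theorem lTensor_invSub [Finite ι] (L : Type u) [CommRing L] [Algebra R L] [Module.Flat R L] :
    Function.Injective (Algebra.TensorProduct.map (AlgHom.id L L) (invSub σ).val) ∧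
    ∀ z : L ⊗[R] A, (∀ g, Algebra.TensorProduct.map (AlgHom.id L L) (σ g) z = z) →
      ∃ w, Algebra.TensorProduct.map (AlgHom.id L L) (invSub σ).val w = z := by
  classical
  haveI := Fintype.ofFinite ι
  have hlin : ∀ {B : Type u} [CommRing B] [Algebra R B] (f : B →ₐ[R] A) (w : L ⊗[R] B),
      Algebra.TensorProduct.map (AlgHom.id L L) f w = f.toLinearMap.lTensor L w := by
    intro B _ _ f w
    induction w using TensorProduct.induction_on with
    | zero => simp
    | tmul l b => simp
    | add x y hx hy => simp only [map_add, hx, hy]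
  constructor
  · have hi : Function.Injective ((invSub σ).val.toLinearMap.lTensor L) :=
      Module.Flat.lTensor_preserves_injective_linearMap _ Subtype.val_injective
    intro a b hab
    rw [hlin, hlin] at hab
    exact hi hab
  · intro z hz
    let d : A →ₗ[R] ι → A := LinearMap.pi fun g => (σ g).toLinearMap - LinearMap.id
    have hex : Function.Exact (invSub σ).val.toLinearMap d := by
      intro a
      constructor
      · intro ha
        exact ⟨⟨a, fun g => sub_eq_zero.mp (congrFun ha g)⟩, rfl⟩
      · rintro ⟨c, rfl⟩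
        funext g
        exact sub_eq_zero.mpr (c.2 g)
    have h0 : d.lTensor L z = 0 := by
      apply (TensorProduct.piRight R R L fun _ : ι => A).injective
      rw [map_zero]
      funext g
      have key : ∀ w : L ⊗[R] A, TensorProduct.piRight R R L (fun _ : ι => A) (d.lTensor L w) g =
          (σ g).toLinearMap.lTensor L w - w := by
        intro w
        induction w using TensorProduct.induction_on with
        | zero => simp
        | tmul l a => simp [d, TensorProduct.tmul_sub]
        | add x y hx hy => simp only [map_add, Pi.add_apply, hx, hy]; abel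
      rw [key, ← hlin, hz g, sub_self]
      rfl
    obtain ⟨w, hw⟩ := ((Module.Flat.lTensor_exact L hex) z).mp h0
    exact ⟨w, by rw [hlin, hw]⟩

/-- An endomorphism of a finite power of a local ring is given by a map of indices. -/
theorem exists_map_of_local {L : Type u} [CommRing L] [IsLocalRing L] {n : ℕ}
    (τ : (Fin n → L) →ₐ[L] (Fin n → L)) : ∃ φ : Fin n → Fin n, ∀ v i, τ v i = v (φ i) := by
  classical
  have h01 : ∀ e : L, IsIdempotentElem e → e = 0 ∨ e = 1 := fun e he => by
    rcases IsLocalRing.isUnit_or_isUnit_one_sub_self e with h | h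
    · exact Or.inr ((IsIdempotentElem.iff_eq_one_of_isUnit h).mp he)
    · exact Or.inl (by
        have := (IsIdempotentElem.iff_eq_one_of_isUnit h).mp he.one_sub
        linear_combination -this)
  have hd : ∀ i j, τ (Pi.single j 1) i = 0 ∨ τ (Pi.single j 1) i = 1 := fun i j =>
    h01 _ (congrFun ((show IsIdempotentElem (Pi.single j 1 : Fin n → L) by
      rw [IsIdempotentElem, ← Pi.single_mul, one_mul]).map τ) i)
  have hex : ∀ i, ∃ j, τ (Pi.single j 1) i = 1 := fun i => by
    by_contra h
    push Not at h
    have : ∑ j, τ (Pi.single j 1) i = 1 := by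
      rw [← Finset.sum_apply, ← map_sum, Finset.univ_sum_single (fun _ : Fin n => (1 : L))]
      exact congrFun (map_one τ) i
    rw [Finset.sum_eq_zero fun j _ => (hd i j).resolve_right (h j)] at this
    exact zero_ne_one this
  choose φ hφ using hex
  refine ⟨φ, fun v i => ?_⟩
  have hmul : v * Pi.single (φ i) 1 = v (φ i) • (Pi.single (φ i) 1 : Fin n → L) := by
    funext j
    by_cases hj : j = φ i
    · subst hj; simp
    · simp [Pi.single_eq_of_ne hj]
  have := congrFun (congrArg τ hmul) i
  rw [map_mul, map_smul, Pi.mul_apply, Pi.smul_apply, smul_eq_mul, hφ, mul_one, mul_one] at this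
  exact this

/-- Over a local base over which the algebra splits, the invariants are the functions constant
on the orbits. -/
theorem invariants_split [Finite ι] (L : Type u) [CommRing L] [IsLocalRing L] [Algebra R L]
    [Module.Flat R L] {n : ℕ} (e : L ⊗[R] A ≃ₐ[L] (Fin n → L)) :
    ∃ φ : ι → Fin n → Fin n,
      (∀ g z i, e (Algebra.TensorProduct.map (AlgHom.id L L) (σ g) z) i = e z (φ g i)) ∧
      ∃ E : L ⊗[R] invSub σ ≃ₐ[L] (Quot (fun i j => ∃ g, φ g i = j) → L),
        ∀ c i, e (Algebra.TensorProduct.map (AlgHom.id L L) (invSub σ).val c) i =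
          E c (Quot.mk _ i) := by
  classical
  choose φ hφ using fun g => exists_map_of_local
    ((e.toAlgHom.comp (Algebra.TensorProduct.map (AlgHom.id L L) (σ g))).comp e.symm.toAlgHom)
  have hφ' : ∀ g z i, e (Algebra.TensorProduct.map (AlgHom.id L L) (σ g) z) i = e z (φ g i) :=
    fun g z i => by simpa using hφ g (e z) i
  obtain ⟨hinj, hsurj⟩ := lTensor_invSub σ L
  refine ⟨φ, hφ', ?_⟩
  let r : Fin n → Fin n → Prop := fun i j => ∃ g, φ g i = j
  let ψ : L ⊗[R] invSub σ →ₐ[L] (Fin n → L) :=
    e.toAlgHom.comp (Algebra.TensorProduct.map (AlgHom.id L L) (invSub σ).val)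
  have hψinj : Function.Injective ψ := e.injective.comp hinj
  have hfix : ∀ g c, Algebra.TensorProduct.map (AlgHom.id L L) (σ g)
      (Algebra.TensorProduct.map (AlgHom.id L L) (invSub σ).val c) =
      Algebra.TensorProduct.map (AlgHom.id L L) (invSub σ).val c := by
    intro g c
    induction c using TensorProduct.induction_on with
    | zero => simp
    | tmul l a => simp [a.2 g]
    | add x y hx hy => simp only [map_add, hx, hy]
  have hψr : ∀ c g i, ψ c i = ψ c (φ g i) := fun c g i =>
    (congrArg (fun z => e z i) (hfix g c)).symm.trans (hφ' g _ i)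
  let F : L ⊗[R] invSub σ →ₐ[L] (Quot r → L) :=
    AlgHom.pi fun q => (Pi.evalAlgHom L (fun _ : Fin n => L) (Quot.out q)).comp ψ
  have hF : ∀ c i, F c (Quot.mk r i) = ψ c i := by
    intro c i
    show ψ c (Quot.out (Quot.mk r i)) = ψ c i
    have hlift : ∀ a b, Relation.EqvGen r a b → ψ c a = ψ c b := fun a b h => by
      induction h with
      | rel x y hxy => obtain ⟨g, rfl⟩ := hxy; exact hψr c g x
      | refl x => rfl
      | symm x y _ ih => exact ih.symm
      | trans x y z _ _ ih1 ih2 => exact ih1.trans ih2
    exact hlift _ _ (Quot.eqvGen_exact (Quot.out_eq (Quot.mk r i)))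
  have hFb : Function.Bijective F := by
    refine ⟨fun a b hab => hψinj (funext fun i => by rw [← hF, ← hF, hab]), fun w => ?_⟩
    obtain ⟨z, hz⟩ := e.surjective fun i => w (Quot.mk r i)
    obtain ⟨c, hc⟩ := hsurj z (fun g => e.injective (funext fun i => by
      rw [hφ', hz]
      exact congrArg w (Quot.sound ⟨g, rfl⟩).symm))
    refine ⟨c, funext fun q => ?_⟩
    obtain ⟨i, rfl⟩ := Quot.exists_rep q
    rw [hF]
    exact (congrArg (fun v => e v i) hc).trans (congrFun hz i)
  exact ⟨AlgEquiv.ofBijective F hFb, fun c i => (hF c i).symm⟩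

section Cover

variable {T : Type u} [CommRing T] [Algebra R T] [Module.FaithfullyFlat R T] {n : ℕ}
  (e : T ⊗[R] A ≃ₐ[T] (Fin n → T))

include e in
/-- The splitting at a localization of the cover. -/
theorem split_local (P : Ideal T) [P.IsPrime] :
    Nonempty (Localization.AtPrime P ⊗[R] A ≃ₐ[Localization.AtPrime P]
      (Fin n → Localization.AtPrime P)) := by
  classical
  exact ⟨(Algebra.TensorProduct.cancelBaseChange R T (Localization.AtPrime P)
    (Localization.AtPrime P) A).symm.trans
    ((Algebra.TensorProduct.congr AlgEquiv.refl e).trans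
      ((Algebra.TensorProduct.piRight T (Localization.AtPrime P) (Localization.AtPrime P)
        (fun _ : Fin n => T)).trans
        (AlgEquiv.piCongrRight fun _ =>
          Algebra.TensorProduct.rid T (Localization.AtPrime P) (Localization.AtPrime P))))⟩

theorem flat_atPrime (P : Ideal T) [P.IsPrime] : Module.Flat R (Localization.AtPrime P) :=
  Module.Flat.trans R T (Localization.AtPrime P)

theorem subsingleton_of_local (N : Type u) [AddCommGroup N] [Module R N]
    (h : ∀ (P : Ideal T) [P.IsMaximal], Subsingleton (Localization.AtPrime P ⊗[R] N)) :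
    Subsingleton N := by
  have : Subsingleton (T ⊗[R] N) := by
    refine Module.subsingleton_of_localization_maximal (R := T) (M := T ⊗[R] N)
      (fun P _ => LocalizedModule P.primeCompl (T ⊗[R] N))
      (fun P _ => LocalizedModule.mkLinearMap P.primeCompl (T ⊗[R] N)) fun P _ => ?_
    haveI := h P
    exact ((LocalizedModule.equivTensorProduct P.primeCompl (T ⊗[R] N)).trans
      (AlgebraTensorModule.cancelBaseChange R T (Localization.AtPrime P)
        (Localization.AtPrime P) N)).toEquiv.subsingleton
  exact Module.FaithfullyFlat.lTensor_reflects_triviality R T N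

theorem flat_of_local (M : Type u) [AddCommGroup M] [Module R M]
    (h : ∀ (P : Ideal T) [P.IsMaximal],
      Module.Flat (Localization.AtPrime P) (Localization.AtPrime P ⊗[R] M)) : Module.Flat R M := by
  haveI : Module.Flat T (T ⊗[R] M) := by
    refine Module.flat_of_localized_maximal _ fun P _ => ?_
    haveI := h P
    haveI : Module.Flat (Localization.AtPrime P) (LocalizedModule P.primeCompl (T ⊗[R] M)) :=
      Module.Flat.of_linearEquiv ((LocalizedModule.equivTensorProduct P.primeCompl (T ⊗[R] M)).trans
        (AlgebraTensorModule.cancelBaseChange R T (Localization.AtPrime P)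
          (Localization.AtPrime P) M))
    exact Module.Flat.trans T (Localization.AtPrime P) _
  exact Module.Flat.of_flat_tensorProduct R M T

include e in
theorem etale_invSub [IsNoetherianRing R] [Module.Finite R A] [Finite ι] :
    Module.Finite R (invSub σ) ∧ Algebra.Etale R (invSub σ) := by
  haveI : IsNoetherian R A := isNoetherian_of_isNoetherianRing_of_finite R A
  haveI hfin : Module.Finite R (invSub σ) :=
    Module.Finite.iff_fg.mpr (IsNoetherian.noetherian (Subalgebra.toSubmodule (invSub σ)))
  have het : ∀ (P : Ideal T) [P.IsPrime],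
      Algebra.Etale (Localization.AtPrime P) (Localization.AtPrime P ⊗[R] invSub σ) := by
    intro P _
    haveI := flat_atPrime (R := R) P
    obtain ⟨eP⟩ := split_local e P
    obtain ⟨φ, -, E, -⟩ := invariants_split σ (Localization.AtPrime P) eP
    haveI := Fintype.ofFinite (Quot fun i j => ∃ g, φ g i = j)
    exact Algebra.Etale.of_equiv E.symm
  haveI : Module.Flat R (invSub σ) :=
    flat_of_local (T := T) (invSub σ) fun P _ => haveI := het P; inferInstance
  haveI : Algebra.FinitePresentation R (invSub σ) := Algebra.FinitePresentation.of_finiteType.mp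
    inferInstance
  haveI : Algebra.FormallyUnramified R (invSub σ) := by
    refine ⟨subsingleton_of_local (R := R) (T := T) _ fun P _ => ?_⟩
    haveI := het P
    letI := Algebra.TensorProduct.rightAlgebra (R := R) (A := Localization.AtPrime P) (B := invSub σ)
    exact (KaehlerDifferential.tensorKaehlerEquivBase R (Localization.AtPrime P) (invSub σ)
      (Localization.AtPrime P ⊗[R] invSub σ)).toEquiv.subsingleton
  exact ⟨hfin, Algebra.Etale.of_formallyUnramified_of_flat⟩

include e in
theorem eqvGen_of_restrict_eq [Finite ι] [Module.Finite R T] {Ω : Type u} [Field Ω] [IsAlgClosed Ω]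
    [Algebra R Ω] (φ₁ φ₂ : A →ₐ[R] Ω) (h : ∀ a ∈ invSub σ, φ₁ a = φ₂ a) :
    Relation.EqvGen (fun a b => ∃ g, a.comp (σ g) = b) φ₁ φ₂ := by
  classical
  haveI : Nontrivial (Ω ⊗[R] T) :=
    (Module.FaithfullyFlat.nontrivial_tensorProduct_iff_left (R := R) (M := Ω) (N := T)).mpr
      inferInstance
  obtain ⟨Φ⟩ := exists_point Ω (Ω ⊗[R] T)
  let θ : T →ₐ[R] Ω :=
    (Φ.restrictScalars R).comp (Algebra.TensorProduct.includeRight (R := R) (A := Ω) (B := T))
  let P : Ideal T := RingHom.ker θ
  haveI : P.IsPrime := RingHom.ker_isPrime θ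
  let L := Localization.AtPrime P
  haveI := flat_atPrime (R := R) P
  let θL : L →+* Ω := IsLocalization.lift (M := P.primeCompl) (g := θ.toRingHom)
    fun y => isUnit_iff_ne_zero.mpr fun hy => y.2 hy
  letI : Algebra L Ω := θL.toAlgebra
  haveI : IsScalarTower R L Ω := .of_algebraMap_eq fun r => by
    show _ = θL (algebraMap R L r)
    rw [IsScalarTower.algebraMap_apply R T L, IsLocalization.lift_eq]
    exact (θ.commutes r).symm
  obtain ⟨eP⟩ := split_local e P
  obtain ⟨π, hπ, E, hE⟩ := invariants_split σ L eP
  let pt : Fin n → (A →ₐ[R] Ω) := fun i =>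
    { toFun := fun a => θL (eP (1 ⊗ₜ a) i)
      map_one' := by rw [← Algebra.TensorProduct.one_def, map_one]; exact map_one θL
      map_mul' := fun a b => by
        rw [show ((1 : L) ⊗ₜ[R] (a * b)) = (1 ⊗ₜ a) * (1 ⊗ₜ b) by simp, map_mul, Pi.mul_apply,
          map_mul]
      map_zero' := by simp
      map_add' := fun a b => by simp [TensorProduct.tmul_add]
      commutes' := fun r => by
        rw [← Algebra.TensorProduct.algebraMap_apply', IsScalarTower.algebraMap_apply R L (L ⊗[R] A),
          eP.commutes]
        exact (IsScalarTower.algebraMap_apply R L Ω r).symm }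
  have hpt : ∀ φ : A →ₐ[R] Ω, ∃ i, pt i = φ := by
    intro φ
    let Ψ : (Fin n → L) →ₐ[L] Ω := (Algebra.TensorProduct.lift (Algebra.ofId L Ω) φ
      fun _ _ => Commute.all _ _).comp eP.symm.toAlgHom
    obtain ⟨i, hi⟩ : ∃ i, Ψ (Pi.single i 1) ≠ 0 := by
      by_contra hh
      push Not at hh
      have : Ψ (∑ j, Pi.single j (1 : L)) = 0 := by
        rw [map_sum]; exact Finset.sum_eq_zero fun j _ => hh j
      rw [Finset.univ_sum_single (fun _ : Fin n => (1 : L))] at this
      exact one_ne_zero ((map_one Ψ).symm.trans this)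
    refine ⟨i, AlgHom.ext fun a => ?_⟩
    show θL (eP (1 ⊗ₜ a) i) = φ a
    set v := eP ((1 : L) ⊗ₜ a)
    have hmul : v * Pi.single i 1 = v i • (Pi.single i 1 : Fin n → L) := by
      funext j
      by_cases hj : j = i
      · subst hj; simp
      · simp [Pi.single_eq_of_ne hj]
    have h2 := congrArg Ψ hmul
    rw [map_mul, map_smul, Algebra.smul_def] at h2
    have h3 : Ψ v = θL (v i) := mul_right_cancel₀ hi h2
    rw [← h3]
    simp [Ψ, v]
  obtain ⟨i, rfl⟩ := hpt φ₁
  obtain ⟨j, rfl⟩ := hpt φ₂
  have key : ∀ c : L ⊗[R] invSub σ, θL (E c (Quot.mk _ i)) = θL (E c (Quot.mk _ j)) := by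
    intro c
    rw [← hE, ← hE]
    induction c using TensorProduct.induction_on with
    | zero => simp
    | tmul l a =>
        have hl : Algebra.TensorProduct.map (AlgHom.id L L) (invSub σ).val (l ⊗ₜ a) =
            l • ((1 : L) ⊗ₜ[R] (a : A)) := by simp [TensorProduct.smul_tmul']
        rw [hl, map_smul, Pi.smul_apply, Pi.smul_apply, smul_eq_mul, smul_eq_mul, map_mul, map_mul]
        exact congrArg (θL l * ·) (h a a.2)
    | add x y hx hy => simp only [map_add, Pi.add_apply, hx, hy]
  have hij : Quot.mk (fun i j => ∃ g, π g i = j) i = Quot.mk _ j := by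
    by_contra hne
    obtain ⟨c, hc⟩ := E.surjective (Pi.single (Quot.mk _ i) 1)
    have := key c
    rw [hc, Pi.single_eq_same, Pi.single_eq_of_ne (Ne.symm hne), map_one, map_zero] at this
    exact one_ne_zero this
  have hmap : ∀ a b : Fin n, Relation.EqvGen (fun i j => ∃ g, π g i = j) a b →
      Relation.EqvGen (fun a b => ∃ g, a.comp (σ g) = b) (pt a) (pt b) := by
    intro a b hab
    induction hab with
    | rel x y hxy =>
        obtain ⟨g, rfl⟩ := hxy
        refine .rel _ _ ⟨g, AlgHom.ext fun z => ?_⟩
        show θL (eP (1 ⊗ₜ σ g z) x) = θL (eP (1 ⊗ₜ z) (π g x))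
        rw [← hπ]
        simp
    | refl x => exact .refl _
    | symm x y _ ih => exact .symm _ _ ih
    | trans x y z _ _ ih1 ih2 => exact .trans _ _ _ ih1 ih2
  exact hmap i j (Quot.eqvGen_exact hij)

end Cover

end SchFinLib
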