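import Mathlib.RingTheory.Etale.Pi
import Mathlib.RingTheory.Etale.Basic
import Mathlib.RingTheory.Spectrum.Prime.Chevalley
import Mathlib.RingTheory.Flat.FaithfullyFlat.Algebra
import Mathlib.RingTheory.RingHom.FaithfullyFlat
import Mathlib.RingTheory.Idempotents
import Mathlib.RingTheory.Smooth.Flat

/-!
# Finite étale algebras: products, idempotent factors, the image idempotent
-/

set_option autoImplicit false
set_option linter.style.haveILetI false

open TensorProduct

namespace SchFinLib

universe u

theorem etale_prod (R A B : Type u) [CommRing R] [CommRing A] [CommRing B] [Algebra R A]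
    [Algebra R B] [Algebra.Etale R A] [Algebra.Etale R B] : Algebra.Etale R (A × B) := by
  let C : Bool → Type u := fun b => cond b A B
  letI iC : ∀ b, CommRing (C b) := fun b => match b with
    | true => ‹CommRing A›
    | false => ‹CommRing B›
  letI iA : ∀ b, Algebra R (C b) := fun b => match b with
    | true => ‹Algebra R A›
    | false => ‹Algebra R B›
  haveI : ∀ b, Algebra.Etale R (C b) := fun b => match b with
    | true => ‹Algebra.Etale R A›
    | false => ‹Algebra.Etale R B›
  let e : (∀ b, C b) ≃ₐ[R] A × B :=
    AlgEquiv.ofBijective (AlgHom.prod (Pi.evalAlgHom R C true) (Pi.evalAlgHom R C false))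
      ⟨fun f g h => funext fun b => match b with
        | true => congrArg Prod.fst h
        | false => congrArg Prod.snd h,
       fun ab => ⟨fun b => match b with
        | true => ab.1
        | false => ab.2, rfl⟩⟩
  exact Algebra.Etale.of_equiv e

/-- The factor of an algebra cut out by an idempotent. -/
theorem etale_quotient_idem (R : Type u) {A : Type u} [CommRing R] [CommRing A] [Algebra R A]
    [Algebra.Etale R A] (e : A) (he : IsIdempotentElem e) :
    Algebra.Etale R (A ⧸ Ideal.span {1 - e}) := by
  haveI : IsLocalization.Away e (A ⧸ Ideal.span {1 - e}) :=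
    IsLocalization.away_of_isIdempotentElem he (Ideal.mk_ker) Ideal.Quotient.mk_surjective
  haveI : Algebra.Etale A (A ⧸ Ideal.span {1 - e}) := Algebra.Etale.of_isLocalizationAway e
  exact Algebra.Etale.comp R A _

theorem flat_prod (R M N : Type u) [CommRing R] [AddCommGroup M] [AddCommGroup N] [Module R M]
    [Module R N] [Module.Flat R M] [Module.Flat R N] : Module.Flat R (M × N) := by
  rw [Module.Flat.iff_rTensor_preserves_injective_linearMap]
  intro P Q _ _ _ _ φ hφ
  have hcomm : ∀ z, TensorProduct.prodRight R R Q M N (φ.rTensor (M × N) z) =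
      ((φ.rTensor M) (TensorProduct.prodRight R R P M N z).1,
        (φ.rTensor N) (TensorProduct.prodRight R R P M N z).2) := by
    intro z
    induction z using TensorProduct.induction_on with
    | zero => simp only [map_zero]; rfl
    | tmul p x => simp
    | add x y hx hy => simp [map_add, hx, hy]
  intro a b hab
  have := congrArg (TensorProduct.prodRight R R Q M N) hab
  rw [hcomm, hcomm, Prod.ext_iff] at this
  apply (TensorProduct.prodRight R R P M N).injective
  exact Prod.ext (Module.Flat.rTensor_preserves_injective_linearMap φ hφ this.1)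
    (Module.Flat.rTensor_preserves_injective_linearMap φ hφ this.2)

/-- The properties of the idempotent of the image of a map. -/
structure IsImIdem {A B : Type*} [CommRing A] [CommRing B] (f : A →+* B) (e : A) : Prop where
  idem : IsIdempotentElem e
  map_one : f e = 1
  ker_le : ∀ a, f a = 0 → e * a = 0

theorem IsImIdem.unique {A B : Type*} [CommRing A] [CommRing B] {f : A →+* B} {e e' : A}
    (h : IsImIdem f e) (h' : IsImIdem f e') : e = e' := by
  have h1 : e' * (1 - e) = 0 := h'.ker_le _ (by rw [map_sub, _root_.map_one, h.map_one, sub_self])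
  have h2 : e * (1 - e') = 0 := h.ker_le _ (by rw [map_sub, _root_.map_one, h'.map_one, sub_self])
  rw [mul_sub, mul_one, sub_eq_zero] at h1 h2
  rw [h2, h1, mul_comm]
  rw [mul_assoc, h.idem.eq]

theorem exists_imIdem {A B : Type u} [CommRing A] [CommRing B] [Algebra A B]
    [Module.Finite A B] [Module.Flat A B] [Algebra.FinitePresentation A B] :
    ∃ e, IsImIdem (algebraMap A B) e := by
  classical
  let f := algebraMap A B
  have hclosed : IsClosed (Set.range (PrimeSpectrum.comap f)) :=
    (PrimeSpectrum.isClosedMap_comap_of_isIntegral f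
      (fun b => Algebra.IsIntegral.isIntegral b)).isClosed_range
  have hopen : IsOpen (Set.range (PrimeSpectrum.comap f)) :=
    (PrimeSpectrum.isOpenMap_comap_of_hasGoingDown_of_finitePresentation (R := A) (S := B)).isOpen_range
  obtain ⟨e, he, hrange⟩ := PrimeSpectrum.exists_idempotent_basicOpen_eq_of_isClopen ⟨hclosed, hopen⟩
  have h1 : f e = 1 := by
    have hnil : IsNilpotent (f (1 - e)) := by
      refine nilpotent_iff_mem_prime.mpr fun P hP => ?_
      have hmem : PrimeSpectrum.comap f ⟨P, hP⟩ ∈ (PrimeSpectrum.basicOpen e : Set _) :=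
        hrange ▸ ⟨⟨P, hP⟩, rfl⟩
      have hne : f e ∉ P := hmem
      refine (hP.mem_or_mem ?_).resolve_left hne
      rw [← map_mul, mul_sub, mul_one, he.eq, sub_self, map_zero]
      exact P.zero_mem
    have := IsIdempotentElem.eq_zero_of_isNilpotent (he.one_sub.map f) hnil
    rw [map_sub, _root_.map_one, sub_eq_zero] at this
    exact this.symm
  refine ⟨e, he, h1, fun a ha => ?_⟩
  haveI : IsLocalization.Away (1 - e) (A ⧸ Ideal.span {e}) :=
    IsLocalization.away_of_isIdempotentElem he.one_sub
      (by rw [sub_sub_cancel]; exact Ideal.mk_ker) Ideal.Quotient.mk_surjective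
  haveI : Module.Flat A (A ⧸ Ideal.span {e}) := IsLocalization.flat _ (Submonoid.powers (1 - e))
  haveI : Module.Flat A (B × (A ⧸ Ideal.span {e})) := flat_prod A B _
  haveI : Module.FaithfullyFlat A (B × (A ⧸ Ideal.span {e})) := by
    refine Module.FaithfullyFlat.of_comap_surjective fun P => ?_
    by_cases hP : e ∈ P.asIdeal
    · let J : Ideal (A ⧸ Ideal.span {e}) := P.asIdeal.map (Ideal.Quotient.mk _)
      haveI : J.IsPrime := Ideal.map_isPrime_of_surjective Ideal.Quotient.mk_surjective
        (by rw [Ideal.mk_ker, Ideal.span_singleton_le_iff_mem]; exact hP)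
      refine ⟨PrimeSpectrum.comap (RingHom.snd B _) ⟨J, inferInstance⟩, ?_⟩
      refine PrimeSpectrum.ext ?_
      show J.comap (Ideal.Quotient.mk _) = P.asIdeal
      rw [Ideal.comap_map_of_surjective _ Ideal.Quotient.mk_surjective, ← RingHom.ker_eq_comap_bot,
        Ideal.mk_ker, sup_eq_left, Ideal.span_singleton_le_iff_mem]
      exact hP
    · obtain ⟨Q, rfl⟩ : P ∈ Set.range (PrimeSpectrum.comap f) := hrange ▸ hP
      exact ⟨PrimeSpectrum.comap (RingHom.fst B _) Q, rfl⟩
  have hinj : Function.Injective (algebraMap A (B × (A ⧸ Ideal.span {e}))) :=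
    RingHom.FaithfullyFlat.injective (RingHom.faithfullyFlat_algebraMap_iff.mpr inferInstance)
  apply hinj
  rw [map_zero]
  refine Prod.ext ?_ ?_
  · show f (e * a) = 0
    rw [map_mul, ha, mul_zero]
  · show Ideal.Quotient.mk _ (e * a) = 0
    exact Ideal.Quotient.eq_zero_iff_mem.mpr (Ideal.mul_mem_right _ _ (Ideal.mem_span_singleton_self e))

/-- The image idempotent of a map of finite étale algebras over a base. -/
theorem exists_imIdem_algHom (R : Type u) {A B : Type u} [CommRing R] [CommRing A] [CommRing B]
    [Algebra R A] [Algebra R B] [Algebra.Etale R A] [Algebra.Etale R B] [Module.Finite R B]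
    (f : A →ₐ[R] B) : ∃ e, IsImIdem f.toRingHom e := by
  letI := f.toRingHom.toAlgebra
  haveI : IsScalarTower R A B := .of_algebraMap_eq fun r => (f.commutes r).symm
  haveI : Module.Finite A B := Module.Finite.of_restrictScalars_finite R A B
  haveI : Algebra.Etale A B := Algebra.Etale.of_restrictScalars R A B
  exact exists_imIdem

/-- The image idempotent is stable under flat base change. -/
theorem IsImIdem.map_baseChange {R S A B A' B' : Type u} [CommRing R] [CommRing S] [Algebra R S]
    [Module.Flat R S] [CommRing A] [CommRing B] [CommRing A'] [CommRing B'] [Algebra R A]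
    [Algebra R B] [Algebra S A'] [Algebra S B'] (f : A →ₐ[R] B) (f' : A' →ₐ[S] B')
    (iA : S ⊗[R] A →ₐ[S] A') (iB : S ⊗[R] B →ₐ[S] B') (hA : Function.Surjective iA)
    (hB : Function.Injective iB) (hcomm : ∀ a, f' (iA (1 ⊗ₜ a)) = iB (1 ⊗ₜ f a)) {e : A}
    (h : IsImIdem f.toRingHom e) : IsImIdem f'.toRingHom (iA (1 ⊗ₜ e)) where
  idem := (h.idem.map (Algebra.TensorProduct.includeRight (R := R) (A := S))).map iA
  map_one := by
    show f' (iA (1 ⊗ₜ e)) = 1
    rw [hcomm, show f e = 1 from h.map_one]
    exact _root_.map_one iB
  ker_le := by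
    intro a' ha'
    obtain ⟨z, rfl⟩ := hA a'
    have hz : ∀ z, f' (iA z) = iB (f.toLinearMap.lTensor S z) := by
      intro z
      induction z using TensorProduct.induction_on with
      | zero => simp
      | tmul s a =>
          have : (s ⊗ₜ[R] a) = s • ((1 : S) ⊗ₜ[R] a) := by simp [TensorProduct.smul_tmul']
          rw [this, map_smul, map_smul, hcomm, LinearMap.lTensor, ← map_smul]
          simp [TensorProduct.smul_tmul']
      | add x y hx hy => simp only [map_add, hx, hy]
    have hex : Function.Exact (LinearMap.mulLeft R (1 - e)) f.toLinearMap := by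
      intro a
      constructor
      · intro ha
        refine ⟨a, ?_⟩
        show (1 - e) * a = a
        rw [sub_mul, one_mul, h.ker_le a ha, sub_zero]
      · rintro ⟨b, rfl⟩
        show f ((1 - e) * b) = 0
        rw [map_mul, map_sub, _root_.map_one, show f e = 1 from h.map_one, sub_self, zero_mul]
    have h0 : f.toLinearMap.lTensor S z = 0 := by
      apply hB
      rw [← hz, map_zero]
      exact ha'
    obtain ⟨w, rfl⟩ := ((Module.Flat.lTensor_exact S hex) z).mp h0
    rw [← map_mul]
    convert! map_zero iA
    clear h0 ha'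
    induction w using TensorProduct.induction_on with
    | zero => simp
    | tmul s a =>
        simp only [LinearMap.lTensor_tmul, LinearMap.mulLeft_apply,
          Algebra.TensorProduct.tmul_mul_tmul]
        rw [← mul_assoc e, mul_sub, mul_one, h.idem.eq, sub_self, zero_mul, TensorProduct.tmul_zero]
    | add x y hx hy => rw [map_add, mul_add, hx, hy, add_zero]

end SchFinLib
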