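import Groth.Prelude.Def_SchFin
import Mathlib.RingTheory.Spectrum.Prime.Topology
import Mathlib.RingTheory.Idempotents

/-!
# Connectedness of finite ringed posets
-/

set_option autoImplicit false
set_option linter.style.haveILetI false

namespace SchFinLib

open SchFin

universe u

theorem connectedSpace_spec_iff {R : Type*} [CommRing R] :
    ConnectedSpace (PrimeSpectrum R) ↔
      Nontrivial R ∧ ∀ e : R, IsIdempotentElem e → e = 0 ∨ e = 1 := by
  constructor
  · intro h
    refine ⟨PrimeSpectrum.nonempty_iff_nontrivial.mp inferInstance, fun e he => ?_⟩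
    rcases isClopen_iff.mp (PrimeSpectrum.isClopen_iff.mpr ⟨e, he, rfl⟩) with h0 | h1
    · left
      have hn : IsNilpotent e := PrimeSpectrum.basicOpen_eq_bot_iff e |>.mp (SetLike.coe_injective h0)
      exact IsIdempotentElem.eq_zero_of_isNilpotent he hn
    · right
      refine PrimeSpectrum.basicOpen_injOn_isIdempotentElem he IsIdempotentElem.one ?_
      rw [PrimeSpectrum.basicOpen_one]
      exact SetLike.coe_injective h1
  · rintro ⟨hn, he⟩
    haveI := hn
    rw [connectedSpace_iff_clopen]
    refine ⟨inferInstance, fun s hs => ?_⟩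
    obtain ⟨e, hid, rfl⟩ := PrimeSpectrum.isClopen_iff.mp hs
    rcases he e hid with rfl | rfl
    · left; simp
    · right; simp

variable {X : RSpace.{u}}

theorem isTopConnected_of_isConnected (hc : X.IsConnected) (hp : X.IsPwConnected) :
    X.IsTopConnected := by
  classical
  obtain ⟨hn, he⟩ := connectedSpace_spec_iff.mp hc
  haveI := hn
  refine ⟨?_, fun p q => ?_⟩
  · by_contra h
    haveI : IsEmpty X.pt := not_nonempty_iff.mp h
    haveI : Subsingleton (X.sectRing Set.univ) :=
      ⟨fun a b => Subtype.ext (funext fun r => absurd ⟨r.1⟩ h)⟩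
    exact not_subsingleton _ this
  · let E : X.pt → Prop := fun r => Relation.EqvGen (fun a b : X.pt => a ≤ b) p r
    let s : X.sectRing Set.univ := ⟨fun r => if E r.1 then 1 else 0, fun r r' h => by
      have : E r.1 ↔ E r'.1 :=
        ⟨fun hr => .trans _ _ _ hr (.rel _ _ h), fun hr => .trans _ _ _ hr (.symm _ _ (.rel _ _ h))⟩
      show X.res h (if E r.1 then 1 else 0) = if E r'.1 then 1 else 0
      by_cases hr : E r.1
      · rw [if_pos hr, if_pos (this.mp hr), map_one]
      · rw [if_neg hr, if_neg fun h' => hr (this.mpr h'), map_zero]⟩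
    have hs : IsIdempotentElem s := Subtype.ext (funext fun r => by
      show (if E r.1 then (1 : X.ring r.1) else 0) * (if E r.1 then 1 else 0) = if E r.1 then 1 else 0
      split_ifs <;> simp)
    haveI := (connectedSpace_spec_iff.mp (hp p)).1
    haveI := (connectedSpace_spec_iff.mp (hp q)).1
    rcases he s hs with h0 | h1
    · have := congrFun (congrArg Subtype.val h0) ⟨p, trivial⟩
      change (if E p then (1 : X.ring p) else 0) = 0 at this
      rw [if_pos (Relation.EqvGen.refl p)] at this
      exact absurd this one_ne_zero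
    · have := congrFun (congrArg Subtype.val h1) ⟨q, trivial⟩
      change (if E q then (1 : X.ring q) else 0) = 1 at this
      by_contra hq
      rw [if_neg hq] at this
      exact zero_ne_one this

/-- A family of decisions at the points that is stable along the order is constant. -/
theorem const_of_topConnected {α : Type*} (hT : X.IsTopConnected) (g : X.pt → α)
    (hg : ∀ p q : X.pt, p ≤ q → g p = g q) (p q : X.pt) : g p = g q := by
  induction hT.2 p q with
  | rel a b h => exact hg a b h
  | refl a => rfl
  | symm a b _ ih => exact ih.symm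
  | trans a b c _ _ ih1 ih2 => exact ih1.trans ih2

theorem isConnected_of_isTopConnected (hT : X.IsTopConnected) (hp : X.IsPwConnected) :
    X.IsConnected := by
  refine connectedSpace_spec_iff.mpr ⟨?_, fun e he => ?_⟩
  · obtain ⟨⟨p⟩⟩ := hT.1, trivial
    haveI := (connectedSpace_spec_iff.mp (hp p)).1
    exact (X.evalRing Set.univ ⟨p, trivial⟩).domain_nontrivial
  · have h01 : ∀ p : X.pt, e.1 ⟨p, trivial⟩ = 0 ∨ e.1 ⟨p, trivial⟩ = 1 := fun p =>
      (connectedSpace_spec_iff.mp (hp p)).2 _ (congrFun (congrArg Subtype.val he) ⟨p, trivial⟩)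
    have hconst := const_of_topConnected hT (fun p => e.1 ⟨p, trivial⟩ = 0) fun p q h => by
      haveI := (connectedSpace_spec_iff.mp (hp q)).1
      refine propext ⟨fun hz => ?_, fun hz => ?_⟩
      · rw [← e.2 ⟨p, trivial⟩ ⟨q, trivial⟩ h, hz, map_zero]
      · rcases h01 p with h0 | h1
        · exact h0
        · have := e.2 ⟨p, trivial⟩ ⟨q, trivial⟩ h
          rw [h1, map_one, hz] at this
          exact absurd this one_ne_zero
    obtain ⟨p⟩ := hT.1
    by_cases h0 : e.1 ⟨p, trivial⟩ = 0
    · left
      exact Subtype.ext (funext fun r => (iff_of_eq (hconst p r.1)).mp h0)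
    · right
      refine Subtype.ext (funext fun r => ?_)
      exact (h01 r.1).resolve_left fun hr => h0 ((iff_of_eq (hconst p r.1)).mpr hr)

theorem isWellConnected_iff : X.IsWellConnected ↔ (X.IsTopConnected ∧ X.IsPwConnected) :=
  ⟨fun h => ⟨isTopConnected_of_isConnected h.1 h.2, h.2⟩,
    fun h => ⟨isConnected_of_isTopConnected h.1 h.2, h.2⟩⟩

theorem exists_map_of_algHom (hW : X.IsWellConnected) (F E : Type) [Finite F] [Finite E]
    (f : ∀ p : X.pt, (F → X.ring p) →ₐ[X.ring p] (E → X.ring p))
    (hf : ∀ (p q : X.pt) (h : p ≤ q) (g : F → X.ring p) (e : E),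
      X.res h (f p g e) = f q (fun i => X.res h (g i)) e) :
    ∃ φ : E → F, ∀ (p : X.pt) (g : F → X.ring p) (e : E), f p g e = g (φ e) := by
  classical
  haveI := Fintype.ofFinite F
  have hT := (isWellConnected_iff.mp hW).1
  let d : ∀ p, F → E → X.ring p := fun p i e => f p (Pi.single i 1) e
  have hd : ∀ p i e, d p i e = 0 ∨ d p i e = 1 := fun p i e =>
    (connectedSpace_spec_iff.mp (hW.2 p)).2 _ (by
      have : IsIdempotentElem (Pi.single i 1 : F → X.ring p) := by
        rw [IsIdempotentElem, ← Pi.single_mul, one_mul]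
      exact congrFun (this.map (f p)) e)
  have hsum : ∀ p e, ∑ i, d p i e = 1 := fun p e => by
    show ∑ i, f p (Pi.single i 1) e = 1
    rw [← Finset.sum_apply, ← map_sum, Finset.univ_sum_single (fun _ : F => (1 : X.ring p))]
    exact congrFun (map_one (f p)) e
  obtain ⟨p₀⟩ := hT.1
  have hex : ∀ e, ∃ i, d p₀ i e = 1 := fun e => by
    haveI := (connectedSpace_spec_iff.mp (hW.2 p₀)).1
    by_contra h
    push Not at h
    have := hsum p₀ e
    rw [Finset.sum_eq_zero fun i _ => (hd p₀ i e).resolve_right (h i)] at this
    exact zero_ne_one this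
  choose φ hφ using hex
  have h1 : ∀ p e, d p (φ e) e = 1 := fun p e => by
    have hc := const_of_topConnected hT (fun p => d p (φ e) e = 1) fun a b h => by
      haveI := (connectedSpace_spec_iff.mp (hW.2 b)).1
      have hab : X.res h (d a (φ e) e) = d b (φ e) e := by
        refine (hf a b h _ e).trans ?_
        refine congrFun (congrArg (f b) (funext fun i => ?_)) e
        by_cases hi : i = φ e
        · subst hi; simp
        · simp [Pi.single_eq_of_ne hi]
      refine propext ⟨fun ha => ?_, fun hb => ?_⟩
      · rw [← hab, ha, map_one]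
      · rcases hd a (φ e) e with h0 | h1
        · rw [h0, map_zero, hb] at hab
          exact absurd hab zero_ne_one
        · exact h1
    exact (iff_of_eq (hc p₀ p)).mp (hφ e)
  refine ⟨φ, fun p g e => ?_⟩
  have hmul : g * Pi.single (φ e) 1 = g (φ e) • (Pi.single (φ e) 1 : F → X.ring p) := by
    funext i
    by_cases hi : i = φ e
    · subst hi; simp
    · simp [Pi.single_eq_of_ne hi]
  have := congrFun (congrArg (f p) hmul) e
  rw [map_mul, map_smul, Pi.mul_apply, Pi.smul_apply, smul_eq_mul] at this
  rw [show f p (Pi.single (φ e) 1) e = 1 from h1 p e, mul_one, mul_one] at this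
  exact this

end SchFinLib
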