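import Groth.Prelude.Def_SchFin2
import Mathlib.RingTheory.Flat.FaithfullyFlat.Algebra
import Mathlib.RingTheory.RingHom.FaithfullyFlat
import Mathlib.RingTheory.SurjectiveOnStalks

/-!
# Schematic finite spaces: degree zero of the schematic condition

Pushout squares of rings of sections, epimorphy of restrictions, bijectivity on stalks.
-/

set_option autoImplicit false
set_option linter.style.haveILetI false

open TensorProduct

namespace SchFinLib

open SchFin

universe u

/-- A faithfully flat ring epimorphism is bijective. -/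
theorem bijective_of_ff_epi {A B : Type u} [CommRing A] [CommRing B] [Algebra A B]
    [Module.FaithfullyFlat A B]
    (h : ∀ {T : Type u} [CommRing T] (g₁ g₂ : B →+* T),
      g₁.comp (algebraMap A B) = g₂.comp (algebraMap A B) → g₁ = g₂) :
    Function.Bijective (algebraMap A B) := by
  refine ⟨RingHom.FaithfullyFlat.injective (f := algebraMap A B)
    (RingHom.faithfullyFlat_algebraMap_iff.mpr inferInstance), ?_⟩
  have key : ∀ b : B, (1 : B) ⊗ₜ[A] b = b ⊗ₜ[A] (1 : B) := by
    intro b
    have := h (T := B ⊗[A] B) (Algebra.TensorProduct.includeRight (R := A) (A := B) (B := B)).toRingHom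
      (Algebra.TensorProduct.includeLeft (R := A) (S := A) (A := B) (B := B)).toRingHom
      (RingHom.ext fun a => by simp)
    exact RingHom.congr_fun this b
  have hs : Function.Surjective ((Algebra.linearMap A B).lTensor B) := by
    intro z
    induction z using TensorProduct.induction_on with
    | zero => exact ⟨0, map_zero _⟩
    | tmul b b' =>
        refine ⟨(b * b') ⊗ₜ[A] (1 : A), ?_⟩
        rw [LinearMap.lTensor_tmul, Algebra.linearMap_apply, map_one]
        calc (b * b') ⊗ₜ[A] (1 : B) = (b ⊗ₜ[A] (1 : B)) * (b' ⊗ₜ[A] (1 : B)) := by simp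
          _ = (b ⊗ₜ[A] (1 : B)) * ((1 : B) ⊗ₜ[A] b') := by rw [key b']
          _ = b ⊗ₜ[A] b' := by simp
    | add x y hx hy =>
        obtain ⟨x, rfl⟩ := hx
        obtain ⟨y, rfl⟩ := hy
        exact ⟨x + y, map_add _ _ _⟩
  exact (Module.FaithfullyFlat.lTensor_surjective_iff_surjective A B (Algebra.linearMap A B)).mp hs

/-- Two primes over the same prime are the kernels of maps to a common field that agree on the
base. -/
theorem exists_field {R S M : Type u} [CommRing R] [CommRing S] [CommRing M] (i : R →+* S)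
    (j : R →+* M) (P : Ideal S) [P.IsPrime] (Q : Ideal M) [Q.IsPrime]
    (h : P.comap i = Q.comap j) :
    ∃ (K : Type u) (_ : Field K) (a : S →+* K) (b : M →+* K),
      a.comp i = b.comp j ∧ RingHom.ker a = P ∧ RingHom.ker b = Q := by
  let p : Ideal R := P.comap i
  letI : Algebra p.ResidueField P.ResidueField := (Ideal.ResidueField.map p P i rfl).toAlgebra
  letI : Algebra p.ResidueField Q.ResidueField := (Ideal.ResidueField.map p Q j h).toAlgebra
  let T := P.ResidueField ⊗[p.ResidueField] Q.ResidueField
  haveI : Nontrivial T :=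
    Module.FaithfullyFlat.nontrivial_tensorProduct_iff_right (R := p.ResidueField)
      (M := P.ResidueField) |>.mpr inferInstance
  obtain ⟨m, hm⟩ := Ideal.exists_maximal T
  letI := Ideal.Quotient.field m
  let a₀ : P.ResidueField →+* T ⧸ m :=
    (Ideal.Quotient.mk m).comp Algebra.TensorProduct.includeLeftRingHom
  let b₀ : Q.ResidueField →+* T ⧸ m :=
    (Ideal.Quotient.mk m).comp
      (Algebra.TensorProduct.includeRight (R := p.ResidueField) (A := P.ResidueField)
        (B := Q.ResidueField)).toRingHom
  refine ⟨T ⧸ m, inferInstance, a₀.comp (algebraMap S P.ResidueField),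
    b₀.comp (algebraMap M Q.ResidueField), ?_, ?_, ?_⟩
  · refine RingHom.ext fun r => ?_
    show a₀ (algebraMap S _ (i r)) = b₀ (algebraMap M _ (j r))
    rw [← Ideal.ResidueField.map_algebraMap p P i rfl r,
      ← Ideal.ResidueField.map_algebraMap p Q j h r]
    show Ideal.Quotient.mk m ((algebraMap p.ResidueField P.ResidueField _) ⊗ₜ 1) =
      Ideal.Quotient.mk m ((1 : P.ResidueField) ⊗ₜ algebraMap p.ResidueField Q.ResidueField _)
    exact congrArg _ (Algebra.TensorProduct.algebraMap_apply' (R := p.ResidueField)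
      (A := P.ResidueField) (B := Q.ResidueField) _)
  · rw [← RingHom.comap_ker, (RingHom.injective_iff_ker_eq_bot a₀).mp a₀.injective]
    exact Ideal.ker_algebraMap_residueField P
  · rw [← RingHom.comap_ker, (RingHom.injective_iff_ker_eq_bot b₀).mp b₀.injective]
    exact Ideal.ker_algebraMap_residueField Q

variable {X Y : RSpace.{u}}

/-- Coefficients as a ring map to the sections. -/
def coefHom {U : Set X.pt} {R : Type u} [CommRing R] (φ : Coef X U R) : R →+* X.sectRing U where
  toFun a := ⟨fun q => φ.map q a, fun q q' h => φ.compat q q' h a⟩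
  map_one' := Subtype.ext (funext fun q => map_one (φ.map q))
  map_mul' a b := Subtype.ext (funext fun q => map_mul (φ.map q) a b)
  map_zero' := Subtype.ext (funext fun q => map_zero (φ.map q))
  map_add' a b := Subtype.ext (funext fun q => map_add (φ.map q) a b)

/-- Restriction of sections to a smaller subset. -/
def restrRing (X : RSpace.{u}) {U U' : Set X.pt} (h : U' ⊆ U) :
    X.sectRing U →+* X.sectRing U' where
  toFun s := ⟨fun q => s.1 ⟨q.1, h q.2⟩, fun q q' hq => s.2 ⟨q.1, h q.2⟩ ⟨q'.1, h q'.2⟩ hq⟩
  map_one' := rfl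
  map_mul' _ _ := rfl
  map_zero' := rfl
  map_add' _ _ := rfl

@[simp] theorem restrRing_apply {U U' : Set X.pt} (h : U' ⊆ U) (s : X.sectRing U) (q : U') :
    (restrRing X h s).1 q = s.1 ⟨q.1, h q.2⟩ := rfl

/-- The one-term chain at a point. -/
def pt0 {U : Set X.pt} (q : U) : Chain U 0 :=
  OrderEmbedding.ofStrictMono (fun _ => q) fun a b hab => absurd (Subsingleton.elim (α := Fin 1) a b) hab.ne

theorem pt0_surj {U : Set X.pt} (σ : Chain U 0) : σ = pt0 (σ (Fin.last 0)) := by
  refine RelEmbedding.ext fun i => ?_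
  obtain rfl : i = Fin.last 0 := Subsingleton.elim (α := Fin 1) i (Fin.last 0)
  rfl

theorem res_chain0 {U : Set X.pt} {R : Type u} [CommRing R] {φ : Coef X U R} {M : OMod X}
    (c : Cochain φ M 0) (σ : Chain U 0) (q : U) (hq : σ (Fin.last 0) = q) (r : X.pt)
    (h : (σ (Fin.last 0)).1 ≤ r) (h' : q.1 ≤ r) :
    M.res h (c σ) = M.res h' (c (pt0 q)) := by
  obtain rfl : σ = pt0 q := by
    rw [← hq]; exact pt0_surj σ
  rfl

/-- A section as a degree-zero cochain. -/
def secCochain {U : Set X.pt} {R : Type u} [CommRing R] (φ : Coef X U R) (s : X.sectRing U) :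
    Cochain φ X.str 0 := fun σ => s.1 (σ (Fin.last 0))

theorem secCochain_mem {U : Set X.pt} {R : Type u} [CommRing R] (φ : Coef X U R)
    (s : X.sectRing U) : secCochain φ s ∈ cocycles φ X.str 0 := by
  refine LinearMap.mem_ker.mpr (funext fun σ => ?_)
  show (∑ j : Fin 2, ((-1 : ℤ) ^ (j : ℕ)) • (secCochain φ s).faceVal σ j) = (0 : X.ring _)
  have hface : ∀ j : Fin 2, (secCochain φ s).faceVal σ j = s.1 (σ (Fin.last 1)) := fun j =>
    s.2 _ _ (Chain.face_last_le j σ)
  rw [Fin.sum_univ_two, hface, hface]
  simp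
  rfl

/-- Sections to degree-zero cohomology. -/
def secOf {U : Set X.pt} {R : Type u} [CommRing R] (φ : Coef X U R) :
    X.sectRing U →+ H φ X.str 0 where
  toFun s := H.mk φ X.str 0 ⟨secCochain φ s, secCochain_mem φ s⟩
  map_zero' := map_zero _
  map_add' a b := by rw [← map_add]; rfl

theorem secOf_smul {U : Set X.pt} {R : Type u} [CommRing R] (φ : Coef X U R) (a : R)
    (s : X.sectRing U) : secOf φ (coefHom φ a * s) = a • secOf φ s := by
  show H.mk φ X.str 0 _ = a • H.mk φ X.str 0 _
  rw [← map_smul]
  rfl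

theorem secOf_bijective {U : Set X.pt} {R : Type u} [CommRing R] (φ : Coef X U R) :
    Function.Bijective (secOf φ) := by
  constructor
  · intro a b hab
    have := (Submodule.Quotient.eq _).mp hab
    rw [Submodule.mem_comap] at this
    change (secCochain φ a - secCochain φ b) ∈ (⊥ : Submodule R (Cochain φ X.str 0)) at this
    have e : secCochain φ a - secCochain φ b = 0 :=
      (Submodule.mem_bot (M := Cochain φ X.str 0) R).mp this
    refine Subtype.ext (funext fun q => ?_)
    have := congrFun e (pt0 q)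
    exact sub_eq_zero.mp this
  · intro z
    obtain ⟨c, rfl⟩ := Submodule.mkQ_surjective _ z
    refine ⟨⟨fun q => c.1 (pt0 q), fun q q' h => ?_⟩, ?_⟩
    · rcases eq_or_lt_of_le h with e | hlt
      · obtain rfl : q = q' := Subtype.ext e
        exact X.res_self _ _
      · let σ : Chain U 1 := OrderEmbedding.ofStrictMono ![q, q'] (by
          refine Fin.strictMono_iff_lt_succ.mpr fun i => ?_
          obtain rfl : i = 0 := Subsingleton.elim i 0
          exact hlt)
        have h0 := congrFun (show diff φ X.str 0 c.1 = 0 from c.2) σ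
        change (∑ j : Fin 2, ((-1 : ℤ) ^ (j : ℕ)) • c.1.faceVal σ j) = (0 : X.ring q'.1) at h0
        rw [Fin.sum_univ_two] at h0
        have e0 : c.1.faceVal σ 0 = X.res (le_refl q'.1) (c.1 (pt0 q')) :=
          res_chain0 c.1 (σ.face 0) q' rfl _ _ _
        have e1 : c.1.faceVal σ 1 = X.res h (c.1 (pt0 q)) :=
          res_chain0 c.1 (σ.face 1) q rfl _ _ _
        rw [e0, e1, X.res_self] at h0
        simp only [Fin.val_zero, pow_zero, one_smul, Fin.val_one, pow_one, neg_smul] at h0
        exact (add_neg_eq_zero.mp h0).symm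
    · show H.mk φ X.str 0 _ = _
      refine congrArg _ (Subtype.ext (funext fun σ => ?_))
      obtain ⟨q, rfl⟩ : ∃ q, σ = pt0 q := ⟨_, pt0_surj σ⟩
      rfl

theorem resH_secOf {U U' : Set X.pt} {R R' : Type u} [CommRing R] [CommRing R']
    {φ : Coef X U R} {φ' : Coef X U' R'} (s : Coef.Sub φ φ') (x : X.sectRing U) :
    resH X.str s 0 (secOf φ x) = secOf φ' (restrRing X s.le x) := rfl

/-- A pushout square of rings, by its universal property. -/
structure IsPO {R S M N : Type u} [CommRing R] [CommRing S] [CommRing M] [CommRing N]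
    (i : R →+* S) (j : R →+* M) (k : S →+* N) (l : M →+* N) : Prop where
  comm : k.comp i = l.comp j
  lift : ∀ {T : Type u} [CommRing T] (a : S →+* T) (b : M →+* T), a.comp i = b.comp j →
    ∃ ψ : N →+* T, ψ.comp k = a ∧ ψ.comp l = b
  uniq : ∀ {T : Type u} [CommRing T] (f g : N →+* T), f.comp k = g.comp k → f.comp l = g.comp l →
    f = g

/-- A square whose comparison map from the tensor product is bijective is a pushout. -/
theorem isPO_of_bijective {R S M N : Type u} [CommRing R] [CommRing S] [CommRing M] [CommRing N]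
    (i : R →+* S) (j : R →+* M) (k : S →+* N) (l : M →+* N) (hc : k.comp i = l.comp j)
    (hb : letI := i.toAlgebra; letI := j.toAlgebra; letI := (k.comp i).toAlgebra
      Function.Bijective (Algebra.TensorProduct.lift
        (⟨k, fun _ => rfl⟩ : S →ₐ[R] N) (⟨l, fun r => (RingHom.congr_fun hc r).symm⟩ : M →ₐ[R] N)
        fun _ _ => Commute.all _ _)) : IsPO i j k l := by
  letI := i.toAlgebra; letI := j.toAlgebra; letI := (k.comp i).toAlgebra
  let kA : S →ₐ[R] N := ⟨k, fun _ => rfl⟩
  let lA : M →ₐ[R] N := ⟨l, fun r => (RingHom.congr_fun hc r).symm⟩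
  let θ := AlgEquiv.ofBijective (Algebra.TensorProduct.lift kA lA fun _ _ => Commute.all _ _) hb
  refine ⟨hc, fun {T} _ a b hab => ?_, fun {T} _ f g hk hl => ?_⟩
  · letI := (a.comp i).toAlgebra
    let aA : S →ₐ[R] T := ⟨a, fun _ => rfl⟩
    let bA : M →ₐ[R] T := ⟨b, fun r => (RingHom.congr_fun hab r).symm⟩
    let ψ := (Algebra.TensorProduct.lift aA bA fun _ _ => Commute.all _ _).comp θ.symm.toAlgHom
    refine ⟨ψ.toRingHom, RingHom.ext fun s => ?_, RingHom.ext fun m => ?_⟩
    · show (Algebra.TensorProduct.lift aA bA fun _ _ => Commute.all _ _) (θ.symm (k s)) = a s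
      have : θ (s ⊗ₜ 1) = k s := by simp [θ, kA, lA]
      rw [← this, θ.symm_apply_apply]
      simp [aA, bA]
    · show (Algebra.TensorProduct.lift aA bA fun _ _ => Commute.all _ _) (θ.symm (l m)) = b m
      have : θ (1 ⊗ₜ m) = l m := by simp [θ, kA, lA]
      rw [← this, θ.symm_apply_apply]
      simp [aA, bA]
  · refine RingHom.ext fun n => ?_
    obtain ⟨z, rfl⟩ := θ.surjective n
    induction z using TensorProduct.induction_on with
    | zero => simp
    | tmul s m =>
        have : θ (s ⊗ₜ m) = k s * l m := by simp [θ, kA, lA]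
        rw [this, map_mul, map_mul]
        congr 1
        · exact RingHom.congr_fun hk s
        · exact RingHom.congr_fun hl m
    | add x y hx hy => simp only [map_add, hx, hy]

/-- A base change in degree-zero cohomology is a pushout square of rings of sections. -/
theorem isPO_of_bc {U U' : Set X.pt} {R R' : Type u} [CommRing R] [CommRing R']
    {φ : Coef X U R} {φ' : Coef X U' R'} (s : Coef.Sub φ φ')
    (h : IsBCAlong s.hom (resH X.str s 0)) :
    IsPO s.hom (coefHom φ) (coefHom φ') (restrRing X s.le) := by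
  have hc : (coefHom φ').comp s.hom = (restrRing X s.le).comp (coefHom φ) :=
    RingHom.ext fun a => Subtype.ext (funext fun q => s.compat q a)
  refine isPO_of_bijective _ _ _ _ hc ?_
  letI := s.hom.toAlgebra; letI := (coefHom φ).toAlgebra
  letI := ((coefHom φ').comp s.hom).toAlgebra
  letI : Module R (H φ' X.str 0) := Module.compHom _ s.hom
  haveI : IsScalarTower R R' (H φ' X.str 0) := IsScalarTower.of_algebraMap_smul fun _ _ => rfl
  let F : H φ X.str 0 →ₗ[R] H φ' X.str 0 :=
    { toFun := resH X.str s 0
      map_add' := (resH X.str s 0).map_add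
      map_smul' := (resH X.str s 0).map_smulₛₗ }
  have hF : IsBaseChange R' F := h
  let e : X.sectRing U ≃ₗ[R] H φ X.str 0 :=
    LinearEquiv.ofBijective
      { toFun := secOf φ
        map_add' := map_add _
        map_smul' := fun a x => secOf_smul φ a x } (secOf_bijective φ)
  set θ := Algebra.TensorProduct.lift
    (⟨coefHom φ', fun _ => rfl⟩ : R' →ₐ[R] X.sectRing U')
    (⟨restrRing X s.le, fun r => (RingHom.congr_fun hc r).symm⟩ : X.sectRing U →ₐ[R] X.sectRing U')
    fun _ _ => Commute.all _ _ with hθ
  have key : ∀ z : R' ⊗[R] X.sectRing U,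
      secOf φ' (θ z) = hF.equiv (LinearEquiv.lTensor R' e z) := by
    intro z
    induction z using TensorProduct.induction_on with
    | zero => simp
    | tmul a x =>
        rw [LinearEquiv.lTensor_tmul, IsBaseChange.equiv_tmul, hθ,
          Algebra.TensorProduct.lift_tmul]
        exact secOf_smul φ' a _
    | add x y hx hy => simp only [map_add, hx, hy]
  have hbij : Function.Bijective (fun z => secOf φ' (θ z)) := by
    simp only [key]
    exact hF.equiv.bijective.comp (LinearEquiv.lTensor R' e).bijective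
  exact (Function.Bijective.of_comp_iff' (secOf_bijective φ') _).mp hbij

/-- Schematic spaces: restrictions of rings of sections of meets of minimal open sets are pushouts. -/
theorem isPO_wedge (hX : X.IsSchematic) {x x' : X.pt} (hx : x ≤ x') (y : X.pt) :
    IsPO (X.res hx) (X.resSect x (X.up x ∩ X.up y) Set.inter_subset_left)
      (X.resSect x' (X.up x' ∩ X.up y) Set.inter_subset_left)
      (restrRing X (U' := X.up x' ∩ X.up y) (U := X.up x ∩ X.up y)
        fun _ h => ⟨hx.trans h.1, h.2⟩) :=
  isPO_of_bc ((Hom.id X).subSrc hx y) (hX.2.2 0 x x' hx y y le_rfl).1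

/-- For points above a common point, sections over the meet are the tensor product. -/
theorem isPO_meet (hX : X.IsSchematic) {s a b : X.pt} (ha : s ≤ a) (hb : s ≤ b) :
    IsPO (X.res ha) (X.res hb) (X.resSect a (X.up a ∩ X.up b) Set.inter_subset_left)
      (X.resSect b (X.up a ∩ X.up b) Set.inter_subset_right) := by
  have h := isPO_wedge hX ha b
  let ev : X.sectRing (X.up s ∩ X.up b) →+* X.ring b := X.evalRing (X.up s ∩ X.up b) ⟨b, hb, le_refl b⟩
  have hev : ev.comp (X.resSect s (X.up s ∩ X.up b) Set.inter_subset_left) = X.res hb :=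
    RingHom.ext fun _ => rfl
  have hrs : ∀ t : X.sectRing (X.up s ∩ X.up b),
      X.resSect b (X.up a ∩ X.up b) Set.inter_subset_right (ev t) =
        restrRing X (U' := X.up a ∩ X.up b) (U := X.up s ∩ X.up b)
          (fun _ h => ⟨ha.trans h.1, h.2⟩) t :=
    fun t => Subtype.ext (funext fun q =>
      t.2 ⟨b, hb, le_rfl⟩ ⟨q.1, ha.trans q.2.1, q.2.2⟩ q.2.2)
  refine ⟨RingHom.ext fun r => Subtype.ext (funext fun q => ?_), fun {T} _ a' b' hab => ?_,
    fun {T} _ f g hk hl => h.uniq f g hk (RingHom.ext fun t => ?_)⟩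
  · exact (X.res_comp _ _ r).trans (X.res_comp hb _ r).symm
  · obtain ⟨ψ, h1, h2⟩ := h.lift a' (b'.comp ev) (by rw [RingHom.comp_assoc, hev, hab])
    refine ⟨ψ, h1, RingHom.ext fun c => ?_⟩
    have := RingHom.congr_fun h2 (X.resSect b (X.up s ∩ X.up b) Set.inter_subset_right c)
    simp only [RingHom.comp_apply] at this
    refine (Eq.trans ?_ this).trans ?_
    · rfl
    · exact congrArg b' (X.res_self b c)
  · show f (restrRing X _ t) = g (restrRing X _ t)
    rw [← hrs]
    exact RingHom.congr_fun hl (ev t)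

/-- Evaluation at the bottom of a principal up-set. -/
theorem resSect_bijective (x : X.pt) (U : Set X.pt) (hU : U ⊆ X.up x) (hx : x ∈ U) :
    Function.Bijective (X.resSect x U hU) := by
  constructor
  · intro a b h
    have := congrFun (congrArg Subtype.val h) ⟨x, hx⟩
    exact (X.res_self x a).symm.trans (this.trans (X.res_self x b))
  · intro t
    exact ⟨t.1 ⟨x, hx⟩, Subtype.ext (funext fun q => t.2 ⟨x, hx⟩ q _)⟩

/-- Restrictions of a schematic space are epimorphisms of rings. -/
theorem res_epi (hX : X.IsSchematic) {x y : X.pt} (h : x ≤ y) {T : Type u} [CommRing T]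
    (g₁ g₂ : X.ring y →+* T) (hg : g₁.comp (X.res h) = g₂.comp (X.res h)) : g₁ = g₂ := by
  obtain ⟨ψ, h1, h2⟩ := (isPO_meet hX h h).lift g₁ g₂ hg
  rw [← h1, ← h2]

theorem res_flat (hX : X.IsSchematic) {x y : X.pt} (h : x ≤ y) : (X.res h).Flat :=
  hX.1.2 x y h

/-- Restrictions of a schematic space are isomorphisms on local rings. -/
theorem localRingHom_bijective (hX : X.IsSchematic) {x y : X.pt} (h : x ≤ y)
    (P : Ideal (X.ring y)) [P.IsPrime] :
    Function.Bijective (Localization.localRingHom (P.comap (X.res h)) P (X.res h) rfl) := by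
  set f := Localization.localRingHom (P.comap (X.res h)) P (X.res h) rfl with hfdef
  letI := f.toAlgebra
  haveI : IsLocalHom (algebraMap (Localization.AtPrime (P.comap (X.res h)))
      (Localization.AtPrime P)) := Localization.isLocalHom_localRingHom _ _ _ _
  haveI : Module.Flat (Localization.AtPrime (P.comap (X.res h))) (Localization.AtPrime P) :=
    (RingHom.Flat.localRingHom (res_flat hX h) P (P.comap (X.res h)) rfl :)
  haveI := Module.FaithfullyFlat.of_flat_of_isLocalHom
    (A := Localization.AtPrime (P.comap (X.res h))) (B := Localization.AtPrime P)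
  refine bijective_of_ff_epi (A := Localization.AtPrime (P.comap (X.res h)))
    (B := Localization.AtPrime P) fun {T} _ g₁ g₂ hg => ?_
  refine IsLocalization.ringHom_ext P.primeCompl ?_
  refine res_epi hX h _ _ ?_
  ext a
  have := RingHom.congr_fun hg (algebraMap _ _ a)
  simpa [RingHom.algebraMap_toAlgebra, hfdef, Localization.localRingHom_to_map] using this

theorem res_surjectiveOnStalks (hX : X.IsSchematic) {x y : X.pt} (h : x ≤ y) :
    (X.res h).SurjectiveOnStalks :=
  fun P _ => (localRingHom_bijective hX h P).2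

/-- At a geometric point, no larger point carries a prime over the kernel. -/
theorem comap_ne_ker {Ω : Type u} [Field Ω] [IsAlgClosed Ω]
    (ξ : GeomPt X Ω) {x' : X.pt} (hx : ξ.base < x') (P : Ideal (X.ring x')) [P.IsPrime] :
    P.comap (X.res hx.le) ≠ RingHom.ker ξ.toField := by
  intro hP
  have h := isPO_of_bc (ξ.hom.subTgt PUnit.unit hx.le)
    (ξ.isSchematic.2.2 0 PUnit.unit PUnit.unit le_rfl ξ.base x' hx.le).2
  obtain ⟨K, _, a, b, hab, -, -⟩ := exists_field (X.res hx.le) ξ.toField P (⊥ : Ideal Ω)
    (hP.trans (RingHom.ker_eq_comap_bot _))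
  let ev : (RSpace.point Ω).sectRing (ξ.hom.wedge PUnit.unit ξ.base) →+* Ω :=
    (RSpace.point Ω).evalRing (ξ.hom.wedge PUnit.unit ξ.base)
      (⟨PUnit.unit, ⟨le_rfl, le_refl ξ.base⟩⟩ : ↥(ξ.hom.wedge PUnit.unit ξ.base))
  obtain ⟨ψ, hψ, -⟩ := h.lift a (b.comp ev) (RingHom.ext fun r => by
    refine (RingHom.congr_fun hab r).trans (congrArg b ?_)
    exact (congrArg (ξ.hom.app PUnit.unit) (X.res_self _ r)).symm)
  haveI : Subsingleton ((RSpace.point Ω).sectRing (ξ.hom.wedge PUnit.unit x')) :=
    ⟨fun s t => Subtype.ext (funext fun q => absurd (q.2.2.trans_eq rfl) hx.not_ge)⟩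
  have := congrArg ψ (Subsingleton.elim (1 : (RSpace.point Ω).sectRing _) 0)
  rw [map_one, map_zero] at this
  exact one_ne_zero this

end SchFinLib
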