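import Groth.Agent.SchFinLib.Basic
import Mathlib.RingTheory.Spectrum.Prime.RingHom

/-!
# Pairs and schematic points
-/

set_option autoImplicit false

namespace SchFinLib

open SchFin

universe u

variable {X : RSpace.{u}}

/-- The faithful-flatness hypothesis on meets of minimal open sets. -/
def MeetFF (X : RSpace.{u}) : Prop :=
  ∀ s a b : X.pt, s ≤ a → s ≤ b → (X.up a ∩ X.up b).Nonempty →
    Module.FaithfullyFlat (X.sectRing (X.up a ∩ X.up b))
      ((q : ↥(X.up a ∩ X.up b)) → X.ring q.1)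

theorem pairs_meet (hX : X.IsSchematic) (hff : MeetFF X) {s x y : X.pt} (hx : s ≤ x) (hy : s ≤ y)
    (P : PrimeSpectrum (X.ring x)) (Q : PrimeSpectrum (X.ring y))
    (hPQ : PrimeSpectrum.comap (X.res hx) P = PrimeSpectrum.comap (X.res hy) Q) :
    X.PairRel ⟨x, P⟩ ⟨y, Q⟩ := by
  obtain ⟨K, _, a, b, hab, ha, hb⟩ := exists_field (X.res hx) (X.res hy) P.asIdeal Q.asIdeal
    (congrArg PrimeSpectrum.asIdeal hPQ)
  obtain ⟨ψ, h1, h2⟩ := (isPO_meet hX hx hy).lift a b hab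
  have hne : (X.up x ∩ X.up y).Nonempty := by
    by_contra h
    haveI : Subsingleton (X.sectRing (X.up x ∩ X.up y)) :=
      ⟨fun u v => Subtype.ext (funext fun q => absurd ⟨q.1, q.2⟩ h)⟩
    have := congrArg ψ (Subsingleton.elim (1 : X.sectRing (X.up x ∩ X.up y)) 0)
    rw [map_one, map_zero] at this
    exact one_ne_zero this
  haveI := hff s x y hx hy hne
  obtain ⟨t, ht⟩ := PrimeSpectrum.comap_surjective_of_faithfullyFlat
    (A := X.sectRing (X.up x ∩ X.up y)) (B := (q : ↥(X.up x ∩ X.up y)) → X.ring q.1)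
    ⟨RingHom.ker ψ, RingHom.ker_isPrime ψ⟩
  obtain ⟨q, r, rfl⟩ := PrimeSpectrum.exists_comap_evalRingHom_eq t
  have hr : ∀ c : X.sectRing (X.up x ∩ X.up y), c.1 q ∈ r.asIdeal ↔ ψ c = 0 := fun c => by
    have := congrArg (fun p => c ∈ p.asIdeal) ht
    exact (iff_of_eq this).trans RingHom.mem_ker
  refine ⟨q.1, q.2.1, q.2.2, r, ?_, ?_⟩
  · refine PrimeSpectrum.ext (Ideal.ext fun c => ?_)
    refine (hr (X.resSect x _ Set.inter_subset_left c)).trans ?_
    rw [show ψ (X.resSect x _ Set.inter_subset_left c) = a c from RingHom.congr_fun h1 c]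
    exact RingHom.mem_ker.symm.trans (by rw [ha])
  · refine PrimeSpectrum.ext (Ideal.ext fun c => ?_)
    refine (hr (X.resSect y _ Set.inter_subset_right c)).trans ?_
    rw [show ψ (X.resSect y _ Set.inter_subset_right c) = b c from RingHom.congr_fun h2 c]
    exact RingHom.mem_ker.symm.trans (by rw [hb])

theorem pairRel_equivalence (hX : X.IsSchematic) (hff : MeetFF X) : Equivalence X.PairRel where
  refl a := ⟨a.1, le_rfl, le_rfl, a.2,
    by rw [show X.res (le_refl a.1) = RingHom.id _ from RingHom.ext (X.res_self _)]; exact ⟨rfl, rfl⟩⟩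
  symm := fun {a b} ⟨z, hx, hy, r, h1, h2⟩ => ⟨z, hy, hx, r, h2, h1⟩
  trans := fun {a b c} ⟨z, hza, hzb, r, h1, h2⟩ ⟨z', hzb', hzc, r', h3, h4⟩ => by
    obtain ⟨w, hw, hw', t, ht, ht'⟩ := pairs_meet hX hff hzb hzb' r r' (h2.trans h3.symm)
    refine ⟨w, hza.trans hw, hzc.trans hw', t, ?_, ?_⟩
    · change PrimeSpectrum.comap (X.res hw) t = r at ht
      rw [← h1, ← ht, ← PrimeSpectrum.comap_comp_apply]
      congr 1
      exact RingHom.ext fun e => (X.res_comp hza hw e).symm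
    · change PrimeSpectrum.comap (X.res hw') t = r' at ht'
      rw [← h4, ← ht', ← PrimeSpectrum.comap_comp_apply]
      congr 1
      exact RingHom.ext fun e => (X.res_comp hzc hw' e).symm

theorem existsUnique_top (hX : X.IsSchematic) (hff : MeetFF X) (c : X.SchPt) :
    ∃! a : X.Pair, Quot.mk X.PairRel a = c ∧
      ∀ b : X.Pair, Quot.mk X.PairRel b = c → b.1 ≤ a.1 := by
  have hE := pairRel_equivalence hX hff
  have hrel : ∀ {a b : X.Pair}, Quot.mk X.PairRel a = Quot.mk X.PairRel b → X.PairRel a b :=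
    fun {a b} h => hE.eqvGen_iff.mp (Quot.eqvGen_exact h)
  have hdir : ∀ {a b : X.Pair}, X.PairRel a b →
      ∃ e : X.Pair, Quot.mk X.PairRel e = Quot.mk X.PairRel a ∧ a.1 ≤ e.1 ∧ b.1 ≤ e.1 ∧
        ∀ h : a.1 ≤ e.1, PrimeSpectrum.comap (X.res h) e.2 = a.2 := by
    rintro a b ⟨z, hx, hy, r, h1, h2⟩
    refine ⟨⟨z, r⟩, Quot.sound ⟨z, le_rfl, hx, r, ?_, h1⟩, hx, hy, fun _ => h1⟩
    rw [show X.res (le_refl z) = RingHom.id _ from RingHom.ext (X.res_self _)]
    rfl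
  let S : Set X.pt := {p | ∃ a : X.Pair, Quot.mk X.PairRel a = c ∧ a.1 = p}
  obtain ⟨a₀, ha₀⟩ := Quot.exists_rep c
  obtain ⟨m, hm⟩ := (Set.toFinite S).exists_maximal ⟨a₀.1, a₀, ha₀, rfl⟩
  obtain ⟨⟨a, hac, rfl⟩, hmax⟩ := hm
  refine ⟨a, ⟨hac, fun b hb => ?_⟩, fun b ⟨hbc, hbtop⟩ => ?_⟩
  · obtain ⟨e, he, hae, hbe, -⟩ := hdir (hrel (hac.trans hb.symm))
    exact hbe.trans (hmax ⟨e, he.trans hac, rfl⟩ hae)
  · obtain ⟨e, he, hbe, hae, hbcomap⟩ := hdir (hrel (hbc.trans hac.symm))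
    have hab : a.1 ≤ b.1 := hbtop a hac
    have hba : b.1 ≤ a.1 := by
      exact hbe.trans (hmax ⟨e, he.trans hbc, rfl⟩ hae)
    obtain ⟨p, P⟩ := a
    obtain ⟨q, Q⟩ := b
    obtain rfl : p = q := le_antisymm hab hba
    obtain ⟨z, hx, hy, r, h1, h2⟩ := hrel (hbc.trans hac.symm)
    change PrimeSpectrum.comap (X.res hx) r = Q at h1
    change PrimeSpectrum.comap (X.res hy) r = P at h2
    exact congrArg (Sigma.mk p) (h1.symm.trans h2)

end SchFinLib
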