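import Groth.Prelude.Def_SchFin2
import Mathlib.RingTheory.Etale.Descent
import Mathlib.RingTheory.Etale.Pi
import Mathlib.RingTheory.Finiteness.Descent
import Mathlib.RingTheory.Flat.FaithfullyFlat.Algebra
import Mathlib.RingTheory.RingHom.FaithfullyFlat
import Mathlib.RingTheory.RingHom.Finite
import Mathlib.RingTheory.RingHom.Etale
import Mathlib.LinearAlgebra.TensorProduct.Pi

/-!
# Quasi-coherent modules and algebras over affine open subsets
-/

set_option autoImplicit false
set_option linter.style.haveILetI false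

open TensorProduct

namespace SchFinLib

open SchFin

universe u

/-- Transport of the base-change property along an isomorphism of the source. -/
theorem bcAlong_transport {R R' S M M' N : Type u} [CommRing R] [CommRing R'] [CommRing S]
    [AddCommGroup M] [AddCommGroup M'] [AddCommGroup N] [Module R M] [Module R' M'] [Module S N]
    (e : R ≃+* R') (g : R →+* S) (g' : R' →+* S) (hg : ∀ r, g' (e r) = g r) (f : M →ₛₗ[g] N)
    (f' : M' →ₛₗ[g'] N) (eM : M ≃+ M') (hsm : ∀ r m, eM (r • m) = e r • eM m)
    (hf : ∀ m, f' (eM m) = f m) (h : IsBCAlong g' f') : IsBCAlong g f := by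
  letI : Algebra R S := g.toAlgebra
  letI : Algebra R' S := g'.toAlgebra
  letI : Module R N := Module.compHom N g
  letI iN' : Module R' N := Module.compHom N g'
  haveI : IsScalarTower R S N := IsScalarTower.of_algebraMap_smul fun _ _ => rfl
  haveI : IsScalarTower R' S N := IsScalarTower.of_algebraMap_smul fun _ _ => rfl
  have hsymm : ∀ (r' : R') (m' : M'), eM.symm (r' • m') = e.symm r' • eM.symm m' := fun r' m' => by
    apply eM.injective
    rw [hsm, eM.apply_symm_apply, e.apply_symm_apply, eM.apply_symm_apply]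
  let T : S ⊗[R] M →+ S ⊗[R'] M' := TensorProduct.liftAddHom
    (AddMonoidHom.mk' (fun s => AddMonoidHom.mk' (fun m => s ⊗ₜ[R'] eM m)
      (fun a b => by rw [map_add, TensorProduct.tmul_add]))
      (fun a b => by ext m; exact TensorProduct.add_tmul _ _ _))
    (fun r s m => by
      show (r • s) ⊗ₜ[R'] eM m = s ⊗ₜ[R'] eM (r • m)
      rw [hsm, ← TensorProduct.smul_tmul, Algebra.smul_def, Algebra.smul_def]
      exact congrArg (fun t => (t * s) ⊗ₜ[R'] eM m) (hg r).symm)
  let T' : S ⊗[R'] M' →+ S ⊗[R] M := TensorProduct.liftAddHom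
    (AddMonoidHom.mk' (fun s => AddMonoidHom.mk' (fun m => s ⊗ₜ[R] eM.symm m)
      (fun a b => by rw [map_add, TensorProduct.tmul_add]))
      (fun a b => by ext m; exact TensorProduct.add_tmul _ _ _))
    (fun r s m => by
      show (r • s) ⊗ₜ[R] eM.symm m = s ⊗ₜ[R] eM.symm (r • m)
      rw [hsymm, ← TensorProduct.smul_tmul, Algebra.smul_def, Algebra.smul_def]
      refine congrArg (fun t => (t * s) ⊗ₜ[R] eM.symm m) ?_
      show g' r = g (e.symm r)
      rw [← hg, e.apply_symm_apply])
  have hTT' : ∀ z, T' (T z) = z := fun z => by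
    induction z using TensorProduct.induction_on with
    | zero => simp
    | tmul s m => simp [T, T']
    | add x y hx hy => simp only [map_add, hx, hy]
  have hT'T : ∀ z, T (T' z) = z := fun z => by
    induction z using TensorProduct.induction_on with
    | zero => simp
    | tmul s m => simp [T, T']
    | add x y hx hy => simp only [map_add, hx, hy]
  let fl : M →ₗ[R] N := { toFun := f, map_add' := f.map_add, map_smul' := f.map_smulₛₗ }
  let fl' : M' →ₗ[R'] N := { toFun := f', map_add' := f'.map_add, map_smul' := f'.map_smulₛₗ }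
  have hF : IsBaseChange S fl' := h
  let eT : S ⊗[R] M ≃ₗ[S] N :=
    LinearEquiv.ofBijective
      { toFun := fun z => hF.equiv (T z)
        map_add' := fun a b => by simp only [map_add]
        map_smul' := fun s z => by
          show hF.equiv (T (s • z)) = s • hF.equiv (T z)
          induction z using TensorProduct.induction_on with
          | zero => simp
          | tmul a m =>
              rw [← map_smul hF.equiv]
              simp [T, TensorProduct.smul_tmul']
          | add x y hx hy => simp only [smul_add, map_add, hx, hy] }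
      (hF.equiv.bijective.comp (Function.bijective_iff_has_inverse.mpr ⟨T', hTT', hT'T⟩))
  refine IsBaseChange.of_equiv (f := fl) eT fun m => ?_
  show hF.equiv (T (1 ⊗ₜ m)) = f m
  simp only [T, TensorProduct.liftAddHom_tmul, AddMonoidHom.mk'_apply]
  rw [IsBaseChange.equiv_tmul, one_smul]
  exact hf m

variable {X : RSpace.{u}}

/-- Sections over a subset as global sections of the restriction. -/
def restrictSectEquiv (X : RSpace.{u}) (U : Set X.pt) :
    X.sectRing U ≃+* (X.restrict U).sectRing Set.univ where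
  toFun s := ⟨fun q => s.1 q.1, fun q q' h => s.2 q.1 q'.1 h⟩
  invFun t := ⟨fun q => t.1 ⟨q, trivial⟩, fun q q' h => t.2 ⟨q, trivial⟩ ⟨q', trivial⟩ h⟩
  left_inv _ := rfl
  right_inv _ := rfl
  map_mul' _ _ := rfl
  map_add' _ _ := rfl

/-- The same for modules. -/
def restrictModEquiv (M : OMod X) (U : Set X.pt) :
    M.sect U ≃+ (M.restrict U).sect Set.univ where
  toFun s := ⟨fun q => s.1 q.1, fun q q' h => s.2 q.1 q'.1 h⟩
  invFun t := ⟨fun q => t.1 ⟨q, trivial⟩, fun q q' h => t.2 ⟨q, trivial⟩ ⟨q', trivial⟩ h⟩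
  left_inv _ := rfl
  right_inv _ := rfl
  map_add' _ _ := rfl

/-- Evaluation on an affine subset is a base change. -/
theorem affine_counit {U : Set X.pt} (hUa : (X.restrict U).IsAffine) (M : OMod X) (hM : M.IsQcoh)
    (q : U) : IsBCAlong (X.evalRing U q) (M.evalMod U q) :=
  bcAlong_transport (restrictSectEquiv X U) _ _ (fun _ => rfl) _ _ (restrictModEquiv M U)
    (fun _ _ => rfl) (fun _ => rfl)
    (hUa.2.2.1 (M.restrict U) (fun p p' h => hM p.1 p'.1 h) q)

/-- A linear map that becomes bijective after base change to each factor of a faithfully flat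
product is bijective. -/
theorem bijective_of_pi {R : Type u} [CommRing R] {ι : Type u} [Finite ι] (O : ι → Type u)
    [∀ i, AddCommGroup (O i)] [∀ i, Module R (O i)] [Module.FaithfullyFlat R (∀ i, O i)]
    {M N : Type u} [AddCommGroup M] [AddCommGroup N] [Module R M] [Module R N] (f : M →ₗ[R] N)
    (h : ∀ i, Function.Bijective (f.lTensor (O i))) : Function.Bijective f := by
  classical
  haveI := Fintype.ofFinite ι
  refine (Module.FaithfullyFlat.lTensor_bijective_iff_bijective R (∀ i, O i) f).mp ?_
  let e₁ := TensorProduct.piLeft R M O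
  let e₂ := TensorProduct.piLeft R N O
  have hcomm : ∀ z, e₂ (f.lTensor _ z) = fun i => f.lTensor (O i) (e₁ z i) := by
    intro z
    induction z using TensorProduct.induction_on with
    | zero => funext i; simp
    | tmul a m => funext i; simp [e₁, e₂]
    | add x y hx hy => funext i; simp [map_add, hx, hy]
  have : Function.Bijective fun z => e₂ (f.lTensor _ z) := by
    simp only [hcomm]
    exact (Function.Bijective.piMap h).comp e₁.bijective
  exact (Function.Bijective.of_comp_iff' e₂.bijective _).mp this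

/-- Restriction from a point to an affine open subset is a base change. -/
theorem resSect_bc (x : X.pt) (U : Set X.pt) (hU : U ⊆ X.up x)
    (hUa : (X.restrict U).IsAffine)
    (hff : Module.FaithfullyFlat (X.sectRing U) ((q : ↥U) → X.ring q.1)) (M : OMod X)
    (hM : M.IsQcoh) : IsBCAlong (X.resSect x U hU) (M.resSect x U hU) := by
  letI : Algebra (X.ring x) (X.sectRing U) := (X.resSect x U hU).toAlgebra
  letI : Module (X.ring x) (M.sect U) := Module.compHom _ (X.resSect x U hU)
  haveI : IsScalarTower (X.ring x) (X.sectRing U) (M.sect U) :=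
    IsScalarTower.of_algebraMap_smul fun _ _ => rfl
  let f : M.carrier x →ₗ[X.ring x] M.sect U :=
    { toFun := M.resSect x U hU
      map_add' := (M.resSect x U hU).map_add
      map_smul' := (M.resSect x U hU).map_smulₛₗ }
  let u₀ : X.sectRing U ⊗[X.ring x] M.carrier x →ₗ[X.sectRing U] M.sect U := f.liftBaseChange _
  suffices hu : Function.Bijective u₀ from
    IsBaseChange.of_equiv (f := f) (LinearEquiv.ofBijective u₀ hu) fun m => by simp [u₀]
  haveI : Module.FaithfullyFlat (X.sectRing U) ((q : ↥U) → X.ring q.1) := hff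
  letI : ∀ q : U, Algebra (X.sectRing U) (X.ring q.1) := fun q => (X.evalRing U q).toAlgebra
  refine @bijective_of_pi (X.sectRing U) _ U _ (fun q : U => X.ring q.1) _
    (fun q => inferInstance) hff _ _ _ _ _ _ u₀ fun q => ?_
  letI : Algebra (X.ring x) (X.ring q.1) := (X.res (hU q.2)).toAlgebra
  haveI : IsScalarTower (X.ring x) (X.sectRing U) (X.ring q.1) := .of_algebraMap_eq fun _ => rfl
  letI : Module (X.ring x) (M.carrier q.1) := Module.compHom _ (X.res (hU q.2))
  haveI : IsScalarTower (X.ring x) (X.ring q.1) (M.carrier q.1) :=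
    IsScalarTower.of_algebraMap_smul fun _ _ => rfl
  letI : Module (X.sectRing U) (M.carrier q.1) := Module.compHom _ (X.evalRing U q)
  haveI : IsScalarTower (X.sectRing U) (X.ring q.1) (M.carrier q.1) :=
    IsScalarTower.of_algebraMap_smul fun _ _ => rfl
  let f₁ : M.carrier x →ₗ[X.ring x] M.carrier q.1 :=
    { toFun := M.res (hU q.2), map_add' := (M.res (hU q.2)).map_add,
      map_smul' := (M.res (hU q.2)).map_smulₛₗ }
  have h₁ : IsBaseChange (X.ring q.1) f₁ := hM x q.1 (hU q.2)
  let f₂ : M.sect U →ₗ[X.sectRing U] M.carrier q.1 :=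
    { toFun := M.evalMod U q, map_add' := (M.evalMod U q).map_add,
      map_smul' := (M.evalMod U q).map_smulₛₗ }
  have h₂ : IsBaseChange (X.ring q.1) f₂ := affine_counit hUa M hM q
  have key : ∀ z, h₂.equiv (u₀.lTensor (X.ring q.1) z) =
      h₁.equiv (AlgebraTensorModule.cancelBaseChange (X.ring x) (X.sectRing U) (X.ring q.1)
        (X.ring q.1) (M.carrier x) z) := by
    intro z
    induction z using TensorProduct.induction_on with
    | zero => simp
    | tmul s w =>
        induction w using TensorProduct.induction_on with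
        | zero => simp
        | tmul a m =>
            rw [LinearMap.lTensor_tmul, IsBaseChange.equiv_tmul,
              AlgebraTensorModule.cancelBaseChange_tmul, IsBaseChange.equiv_tmul]
            show s • f₂ (u₀ (a ⊗ₜ m)) = (a • s) • f₁ m
            rw [show u₀ (a ⊗ₜ m) = a • f m by simp [u₀], map_smul, smul_comm,
              smul_assoc]
            rfl
        | add w₁ w₂ h h' => simp only [TensorProduct.tmul_add, map_add, h, h']
    | add z₁ z₂ h h' => simp only [map_add, h, h']
  have hb : Function.Bijective fun z => h₂.equiv (u₀.lTensor (X.ring q.1) z) := by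
    simp only [key]
    exact h₁.equiv.bijective.comp (LinearEquiv.bijective _)
  exact (Function.Bijective.of_comp_iff' h₂.equiv.bijective _).mp hb

section Algebras

variable (A : Alg X) (U : Set X.pt)

/-- Evaluation of sections of an algebra. -/
def algEval (q : U) : A.total.sectRing U →+* A.carrier q.1 := A.total.evalRing U q

/-- The data over an affine subset: the base change of the algebra of sections to each point. -/
theorem sect_bc (hA : A.IsQcoh) (hUa : (X.restrict U).IsAffine) (q : U) :
    letI := (A.sectMap U).toAlgebra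
    letI := (X.evalRing U q).toAlgebra
    ∃ e : X.ring q.1 ⊗[X.sectRing U] A.total.sectRing U ≃ₐ[X.ring q.1] A.carrier q.1,
      ∀ (s : X.ring q.1) (b : A.total.sectRing U),
        e (s ⊗ₜ b) = algebraMap (X.ring q.1) (A.carrier q.1) s * algEval A U q b := by
  letI := (A.sectMap U).toAlgebra
  letI := (X.evalRing U q).toAlgebra
  let eM : A.total.sectRing U ≃+ A.toMod.sect U :=
    { toFun := fun s => ⟨s.1, s.2⟩, invFun := fun s => ⟨s.1, s.2⟩, left_inv := fun _ => rfl,
      right_inv := fun _ => rfl, map_add' := fun _ _ => rfl }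
  let f : A.total.sectRing U →ₛₗ[X.evalRing U q] A.carrier q.1 :=
    { toFun := fun s => s.1 q
      map_add' := fun _ _ => rfl
      map_smul' := fun r s => by
        rw [Algebra.smul_def (X.evalRing U q r)]
        rfl }
  have hbc : IsBCAlong (X.evalRing U q) f :=
    bcAlong_transport (RingEquiv.refl _) _ _ (fun _ => rfl) _ _ eM
      (fun r s => Subtype.ext (funext fun p =>
        (Algebra.smul_def (A := A.carrier p.1) (r.1 p) (s.1 p)).symm)) (fun _ => rfl)
      (affine_counit hUa A.toMod hA q)
  letI : Module (X.sectRing U) (A.carrier q.1) := Module.compHom _ (X.evalRing U q)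
  haveI : IsScalarTower (X.sectRing U) (X.ring q.1) (A.carrier q.1) :=
    IsScalarTower.of_algebraMap_smul fun _ _ => rfl
  let fl : A.total.sectRing U →ₗ[X.sectRing U] A.carrier q.1 :=
    { toFun := f, map_add' := f.map_add, map_smul' := f.map_smulₛₗ }
  have hF : IsBaseChange (X.ring q.1) fl := hbc
  have hmul : ∀ (s : X.ring q.1) (b : A.total.sectRing U),
      hF.equiv (s ⊗ₜ b) = algebraMap (X.ring q.1) (A.carrier q.1) s * algEval A U q b := fun s b => by
    rw [IsBaseChange.equiv_tmul, Algebra.smul_def]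
    rfl
  refine ⟨Algebra.TensorProduct.algEquivOfLinearEquivTensorProduct hF.equiv
    (fun a₁ a₂ b₁ b₂ => ?_) ?_, fun s b => hmul s b⟩
  · rw [hmul, hmul, hmul, map_mul, map_mul]
    ring
  · rw [hmul, map_one, map_one, one_mul]

end Algebras

theorem flat_pi {S : Type u} [CommRing S] {κ : Type u} [Finite κ] (M : κ → Type u)
    [∀ i, AddCommGroup (M i)] [∀ i, Module S (M i)] (h : ∀ i, Module.Flat S (M i)) :
    Module.Flat S (∀ i, M i) := by
  classical
  haveI := Fintype.ofFinite κ
  exact Module.Flat.of_linearEquiv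
    (DFinsupp.linearEquivFunOnFintype (R := S) (M := M)).symm

section Pi

variable {R : Type u} [CommRing R] {ι : Type u} [Finite ι] {O : ι → Type u}
  [∀ i, CommRing (O i)] [∀ i, Algebra R (O i)] (hff : Module.FaithfullyFlat R (∀ i, O i))
  (B : Type u) [CommRing B] [Algebra R B]

/-- A factor of a finite product as an algebra over the product. -/
@[reducible] def factorAlgebra (O : ι → Type u) [∀ i, CommRing (O i)] (i : ι) :
    Algebra (∀ j, O j) (O i) :=
  (Pi.evalRingHom O i).toAlgebra

theorem factor_finite (i : ι) :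
    letI := factorAlgebra O i
    Module.Finite (∀ j, O j) (O i) := by
  letI := factorAlgebra O i
  exact RingHom.Finite.of_surjective (Pi.evalRingHom O i) (Function.surjective_eval i)

theorem factor_etale (i : ι) :
    letI := factorAlgebra O i
    Algebra.Etale (∀ j, O j) (O i) := by
  classical
  letI := factorAlgebra O i
  let e : ∀ j, O j := Pi.single i 1
  have he : IsIdempotentElem e := by rw [IsIdempotentElem, ← Pi.single_mul, one_mul]
  haveI : IsLocalization.Away e (O i) := by
    refine IsLocalization.away_of_isIdempotentElem he ?_ (Function.surjective_eval i)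
    refine le_antisymm (fun a ha => ?_) ?_
    · rw [Ideal.mem_span_singleton]
      refine ⟨a, funext fun j => ?_⟩
      by_cases hj : j = i
      · subst hj
        have ha' : a j = 0 := ha
        simp [e, ha']
      · simp [e, Pi.single_eq_of_ne hj]
    · rw [Ideal.span_singleton_le_iff_mem, RingHom.mem_ker]
      show (1 - e) i = 0
      simp [e]
  exact Algebra.Etale.of_isLocalizationAway e

/-- The product of base changes, as an algebra over the product. -/
theorem piTensor_equiv :
    letI := fun i => factorAlgebra O i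
    letI : ∀ i, Algebra (∀ j, O j) (O i ⊗[R] B) := fun _ => inferInstance
    letI : Algebra (∀ j, O j) (∀ i, O i ⊗[R] B) := Pi.algebra _ _
    Nonempty ((∀ i, O i) ⊗[R] B ≃ₐ[∀ i, O i] (∀ i, O i ⊗[R] B)) := by
  classical
  haveI := Fintype.ofFinite ι
  letI := fun i => factorAlgebra O i
  letI : ∀ i, Algebra (∀ j, O j) (O i ⊗[R] B) := fun _ => inferInstance
  letI : Algebra (∀ j, O j) (∀ i, O i ⊗[R] B) := Pi.algebra _ _
  haveI : ∀ i, IsScalarTower R (∀ j, O j) (O i) := fun i => .of_algebraMap_eq fun _ => rfl
  let θ : (∀ i, O i) ⊗[R] B →ₐ[∀ i, O i] (∀ i, O i ⊗[R] B) :=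
    AlgHom.pi fun i => Algebra.TensorProduct.map (Algebra.ofId (∀ j, O j) (O i)) (AlgHom.id R B)
  have hθ : ∀ z, θ z = TensorProduct.piLeft R B O z := fun z => by
    induction z using TensorProduct.induction_on with
    | zero => rw [map_zero, map_zero]
    | tmul s b => funext i; simp [θ]; rfl
    | add x y hx hy => rw [map_add, map_add, hx, hy]
  refine ⟨AlgEquiv.ofBijective θ ?_⟩
  convert! (TensorProduct.piLeft R B O).bijective using 1
  exact funext hθ

include hff

theorem finite_of_pi (h : ∀ i, Module.Finite (O i) (O i ⊗[R] B)) : Module.Finite R B := by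
  haveI := hff
  letI := fun i => factorAlgebra O i
  letI : ∀ i, Algebra (∀ j, O j) (O i ⊗[R] B) := fun _ => inferInstance
  letI : Algebra (∀ j, O j) (∀ i, O i ⊗[R] B) := Pi.algebra _ _
  obtain ⟨e⟩ := piTensor_equiv (R := R) (O := O) B
  haveI : ∀ i, Module.Finite (∀ j, O j) (O i ⊗[R] B) := fun i => by
    haveI := h i
    haveI := factor_finite (O := O) i
    exact Module.Finite.trans (O i) _
  haveI : Module.Finite (∀ i, O i) ((∀ i, O i) ⊗[R] B) := Module.Finite.equiv e.symm.toLinearEquiv
  exact Module.Finite.of_finite_tensorProduct_of_faithfullyFlat (∀ i, O i)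

theorem flat_of_pi (h : ∀ i, Module.Flat (O i) (O i ⊗[R] B)) : Module.Flat R B := by
  classical
  haveI := Fintype.ofFinite ι
  haveI := hff
  letI := fun i => factorAlgebra O i
  letI : ∀ i, Algebra (∀ j, O j) (O i ⊗[R] B) := fun _ => inferInstance
  letI : Algebra (∀ j, O j) (∀ i, O i ⊗[R] B) := Pi.algebra _ _
  obtain ⟨e⟩ := piTensor_equiv (R := R) (O := O) B
  haveI : ∀ i, Module.Flat (∀ j, O j) (O i ⊗[R] B) := fun i => by
    haveI := h i
    haveI := factor_etale (O := O) i
    exact Module.Flat.trans _ (O i) _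
  haveI : @Module.Flat (∀ i, O i) (∀ i, O i ⊗[R] B) _ _ Algebra.toModule :=
    flat_pi (S := ∀ i, O i) (fun i => O i ⊗[R] B) inferInstance
  haveI : Module.Flat (∀ i, O i) ((∀ i, O i) ⊗[R] B) := Module.Flat.of_linearEquiv e.toLinearEquiv
  exact Module.Flat.of_flat_tensorProduct R B (∀ i, O i)

theorem etale_of_pi (h : ∀ i, Algebra.Etale (O i) (O i ⊗[R] B)) : Algebra.Etale R B := by
  haveI := hff
  letI := fun i => factorAlgebra O i
  letI : ∀ i, Algebra (∀ j, O j) (O i ⊗[R] B) := fun _ => inferInstance
  letI : Algebra (∀ j, O j) (∀ i, O i ⊗[R] B) := Pi.algebra _ _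
  obtain ⟨e⟩ := piTensor_equiv (R := R) (O := O) B
  haveI : ∀ i, Algebra.Etale (∀ j, O j) (O i ⊗[R] B) := fun i => by
    haveI := h i
    haveI := factor_etale (O := O) i
    exact Algebra.Etale.comp _ (O i) _
  haveI : Algebra.Etale (∀ i, O i) ((∀ i, O i) ⊗[R] B) := Algebra.Etale.of_equiv e.symm
  exact Algebra.Etale.of_etale_tensorProduct_of_faithfullyFlat (∀ i, O i)

theorem ff_of_pi (h : ∀ i, Module.FaithfullyFlat (O i) (O i ⊗[R] B)) :
    Module.FaithfullyFlat R B := by
  haveI := flat_of_pi hff B fun i => haveI := h i; inferInstance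
  haveI := hff
  refine Module.FaithfullyFlat.of_comap_surjective fun P => ?_
  obtain ⟨t, rfl⟩ := PrimeSpectrum.comap_surjective_of_faithfullyFlat (A := R) (B := ∀ i, O i) P
  obtain ⟨i, r, rfl⟩ := PrimeSpectrum.exists_comap_evalRingHom_eq t
  haveI := h i
  obtain ⟨w, rfl⟩ := PrimeSpectrum.comap_surjective_of_faithfullyFlat (A := O i)
    (B := O i ⊗[R] B) r
  refine ⟨PrimeSpectrum.comap
    (Algebra.TensorProduct.includeRight (R := R) (A := O i) (B := B)).toRingHom w, ?_⟩
  simp only [← PrimeSpectrum.comap_comp_apply]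
  congr 1
  refine RingHom.ext fun a => ?_
  show (1 : O i) ⊗ₜ[R] algebraMap R B a = algebraMap R (O i) a ⊗ₜ[R] (1 : B)
  rw [Algebra.algebraMap_eq_smul_one, ← TensorProduct.smul_tmul, ← Algebra.algebraMap_eq_smul_one]

end Pi

section Algebras

variable (A : Alg X) (U : Set X.pt) (hA : A.IsQcoh) (hUa : (X.restrict U).IsAffine)
  (hφ : Module.FaithfullyFlat (X.sectRing U) ((q : ↥U) → X.ring q.1))

include hA hUa hφ

theorem finite_iff : (∀ q : X.pt, q ∈ U → Module.Finite (X.ring q) (A.carrier q)) ↔
    (A.sectMap U).Finite := by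
  letI := (A.sectMap U).toAlgebra
  letI : ∀ q : U, Algebra (X.sectRing U) (X.ring q.1) := fun q => (X.evalRing U q).toAlgebra
  refine ⟨fun h => finite_of_pi (O := fun q : U => X.ring q.1) hφ _ fun q => ?_, fun h q hq => ?_⟩
  · obtain ⟨ψ, -⟩ := sect_bc A U hA hUa q
    haveI := h q.1 q.2
    exact Module.Finite.equiv ψ.symm.toLinearEquiv
  · haveI : Module.Finite (X.sectRing U) (A.total.sectRing U) := h
    obtain ⟨ψ, -⟩ := sect_bc A U hA hUa ⟨q, hq⟩
    exact Module.Finite.equiv ψ.toLinearEquiv

theorem flat_iff : (∀ q : X.pt, q ∈ U → Module.Flat (X.ring q) (A.carrier q)) ↔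
    (A.sectMap U).Flat := by
  letI := (A.sectMap U).toAlgebra
  letI : ∀ q : U, Algebra (X.sectRing U) (X.ring q.1) := fun q => (X.evalRing U q).toAlgebra
  refine ⟨fun h => flat_of_pi (O := fun q : U => X.ring q.1) hφ _ fun q => ?_, fun h q hq => ?_⟩
  · obtain ⟨ψ, -⟩ := sect_bc A U hA hUa q
    haveI := h q.1 q.2
    exact Module.Flat.of_linearEquiv ψ.toLinearEquiv
  · haveI : Module.Flat (X.sectRing U) (A.total.sectRing U) := h
    obtain ⟨ψ, -⟩ := sect_bc A U hA hUa ⟨q, hq⟩
    exact Module.Flat.of_linearEquiv ψ.symm.toLinearEquiv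

theorem ff_iff : (∀ q : X.pt, q ∈ U → Module.FaithfullyFlat (X.ring q) (A.carrier q)) ↔
    (A.sectMap U).FaithfullyFlat := by
  letI := (A.sectMap U).toAlgebra
  letI : ∀ q : U, Algebra (X.sectRing U) (X.ring q.1) := fun q => (X.evalRing U q).toAlgebra
  refine ⟨fun h => ff_of_pi (O := fun q : U => X.ring q.1) hφ _ fun q => ?_, fun h q hq => ?_⟩
  · obtain ⟨ψ, -⟩ := sect_bc A U hA hUa q
    haveI := h q.1 q.2
    exact Module.FaithfullyFlat.of_linearEquiv (R := X.ring q.1) (M := A.carrier q.1) ψ.toLinearEquiv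
  · haveI : Module.FaithfullyFlat (X.sectRing U) (A.total.sectRing U) := h
    obtain ⟨ψ, -⟩ := sect_bc A U hA hUa ⟨q, hq⟩
    exact Module.FaithfullyFlat.of_linearEquiv _ _ ψ.symm.toLinearEquiv

theorem etale_iff : (∀ q : X.pt, q ∈ U → Algebra.Etale (X.ring q) (A.carrier q)) ↔
    (A.sectMap U).Etale := by
  letI := (A.sectMap U).toAlgebra
  letI : ∀ q : U, Algebra (X.sectRing U) (X.ring q.1) := fun q => (X.evalRing U q).toAlgebra
  refine ⟨fun h => etale_of_pi (O := fun q : U => X.ring q.1) hφ _ fun q => ?_, fun h q hq => ?_⟩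
  · obtain ⟨ψ, -⟩ := sect_bc A U hA hUa q
    haveI := h q.1 q.2
    exact Algebra.Etale.of_equiv ψ.symm
  · haveI : Algebra.Etale (X.sectRing U) (A.total.sectRing U) := h
    obtain ⟨ψ, -⟩ := sect_bc A U hA hUa ⟨q, hq⟩
    exact Algebra.Etale.of_equiv ψ

end Algebras

end SchFinLib
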