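import Groth.Agent.SchFinLib.FEt
import Mathlib.RingTheory.Flat.Basic

/-!
# Pushouts and the initial object of étale covers
-/

set_option autoImplicit false
set_option linter.style.haveILetI false

open TensorProduct CategoryTheory CategoryTheory.Limits

namespace SchFinLib

open SchFin

universe u

/-- A ring map out of a tensor product of algebras. -/
noncomputable def tensorLift {A B C T : Type u} [CommRing A] [CommRing B] [CommRing C] [CommRing T]
    [Algebra A B] [Algebra A C] (b : B →+* T) (c : C →+* T)
    (h : ∀ a : A, b (algebraMap A B a) = c (algebraMap A C a)) : B ⊗[A] C →+* T :=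
  letI := (b.comp (algebraMap A B)).toAlgebra
  (Algebra.TensorProduct.lift ({ b with commutes' := fun _ => rfl } : B →ₐ[A] T)
    ({ c with commutes' := fun a => (h a).symm } : C →ₐ[A] T) fun _ _ => Commute.all _ _).toRingHom

theorem tensorLift_tmul {A B C T : Type u} [CommRing A] [CommRing B] [CommRing C] [CommRing T]
    [Algebra A B] [Algebra A C] (b : B →+* T) (c : C →+* T)
    (h : ∀ a : A, b (algebraMap A B a) = c (algebraMap A C a)) (x : B) (y : C) :
    tensorLift b c h (x ⊗ₜ y) = b x * c y := by
  letI := (b.comp (algebraMap A B)).toAlgebra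
  simp [tensorLift]

theorem tensor_ext {A B C T : Type u} [CommRing A] [CommRing B] [CommRing C] [CommRing T]
    [Algebra A B] [Algebra A C] {f g : B ⊗[A] C →+* T} (hl : ∀ x, f (x ⊗ₜ 1) = g (x ⊗ₜ 1))
    (hr : ∀ y, f (1 ⊗ₜ y) = g (1 ⊗ₜ y)) : f = g := by
  refine RingHom.ext fun z => ?_
  induction z using TensorProduct.induction_on with
  | zero => simp
  | tmul x y =>
      have : x ⊗ₜ[A] y = (x ⊗ₜ[A] (1 : C)) * ((1 : B) ⊗ₜ[A] y) := by simp
      rw [this, map_mul, map_mul, hl, hr]
  | add x y hx hy => rw [map_add, map_add, hx, hy]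

variable {X : RSpace.{u}} {A B C : Alg X}

/-- The value of the pushout at a point. -/
abbrev pushCarrier (f : A ⟶ B) (g : A ⟶ C) (p : X.pt) : Type u :=
  @TensorProduct (A.carrier p) _ (B.carrier p) (C.carrier p) _ _
    (f.app p).toRingHom.toAlgebra.toModule (g.app p).toRingHom.toAlgebra.toModule

noncomputable instance (f : A ⟶ B) (g : A ⟶ C) (p : X.pt) : CommRing (pushCarrier f g p) :=
  letI := (f.app p).toRingHom.toAlgebra
  letI := (g.app p).toRingHom.toAlgebra
  inferInstance

/-- Left inclusion. -/
noncomputable def pushInl (f : A ⟶ B) (g : A ⟶ C) (p : X.pt) :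
    B.carrier p →+* pushCarrier f g p :=
  letI := (f.app p).toRingHom.toAlgebra
  letI := (g.app p).toRingHom.toAlgebra
  Algebra.TensorProduct.includeLeftRingHom

/-- Right inclusion. -/
noncomputable def pushInr (f : A ⟶ B) (g : A ⟶ C) (p : X.pt) :
    C.carrier p →+* pushCarrier f g p :=
  letI := (f.app p).toRingHom.toAlgebra
  letI := (g.app p).toRingHom.toAlgebra
  (Algebra.TensorProduct.includeRight (R := A.carrier p) (A := B.carrier p)
    (B := C.carrier p)).toRingHom

theorem pushIn_comm (f : A ⟶ B) (g : A ⟶ C) (p : X.pt) (a : A.carrier p) :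
    pushInl f g p (f.app p a) = pushInr f g p (g.app p a) := by
  letI := (f.app p).toRingHom.toAlgebra
  letI := (g.app p).toRingHom.toAlgebra
  exact Algebra.TensorProduct.algebraMap_apply' (R := A.carrier p) (A := B.carrier p)
    (B := C.carrier p) a

noncomputable instance instAlgebraPush (f : A ⟶ B) (g : A ⟶ C) (p : X.pt) :
    Algebra (X.ring p) (pushCarrier f g p) :=
  ((pushInl f g p).comp (algebraMap (X.ring p) (B.carrier p))).toAlgebra

/-- A map out of the pushout at a point. -/
noncomputable def pushDesc (f : A ⟶ B) (g : A ⟶ C) (p : X.pt) {T : Type u} [CommRing T]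
    (b : B.carrier p →+* T) (c : C.carrier p →+* T) (h : ∀ a, b (f.app p a) = c (g.app p a)) :
    pushCarrier f g p →+* T :=
  letI := (f.app p).toRingHom.toAlgebra
  letI := (g.app p).toRingHom.toAlgebra
  tensorLift b c h

theorem pushDesc_inl (f : A ⟶ B) (g : A ⟶ C) (p : X.pt) {T : Type u} [CommRing T]
    (b : B.carrier p →+* T) (c : C.carrier p →+* T) (h : ∀ a, b (f.app p a) = c (g.app p a))
    (x : B.carrier p) : pushDesc f g p b c h (pushInl f g p x) = b x := by
  letI := (f.app p).toRingHom.toAlgebra
  letI := (g.app p).toRingHom.toAlgebra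
  refine (tensorLift_tmul b c h x 1).trans ?_
  rw [map_one, mul_one]

theorem pushDesc_inr (f : A ⟶ B) (g : A ⟶ C) (p : X.pt) {T : Type u} [CommRing T]
    (b : B.carrier p →+* T) (c : C.carrier p →+* T) (h : ∀ a, b (f.app p a) = c (g.app p a))
    (x : C.carrier p) : pushDesc f g p b c h (pushInr f g p x) = c x := by
  letI := (f.app p).toRingHom.toAlgebra
  letI := (g.app p).toRingHom.toAlgebra
  refine (tensorLift_tmul b c h 1 x).trans ?_
  rw [map_one, one_mul]

theorem push_ext (f : A ⟶ B) (g : A ⟶ C) (p : X.pt) {T : Type u} [CommRing T]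
    {F G : pushCarrier f g p →+* T} (hl : ∀ x, F (pushInl f g p x) = G (pushInl f g p x))
    (hr : ∀ y, F (pushInr f g p y) = G (pushInr f g p y)) : F = G := by
  letI := (f.app p).toRingHom.toAlgebra
  letI := (g.app p).toRingHom.toAlgebra
  exact tensor_ext hl hr

theorem push_algebraMap (f : A ⟶ B) (g : A ⟶ C) (p : X.pt) (a : X.ring p) :
    algebraMap (X.ring p) (pushCarrier f g p) a = pushInl f g p (algebraMap _ _ a) := rfl

theorem push_algebraMap' (f : A ⟶ B) (g : A ⟶ C) (p : X.pt) (a : X.ring p) :
    algebraMap (X.ring p) (pushCarrier f g p) a = pushInr f g p (algebraMap _ _ a) := by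
  rw [push_algebraMap, ← (f.app p).commutes, pushIn_comm, (g.app p).commutes]

/-- Restriction of the pushout. -/
noncomputable def pushRes (f : A ⟶ B) (g : A ⟶ C) {p q : X.pt} (h : p ≤ q) :
    pushCarrier f g p →+* pushCarrier f g q :=
  pushDesc f g p ((pushInl f g q).comp (B.res h)) ((pushInr f g q).comp (C.res h)) fun a => by
    show pushInl f g q (B.res h (f.app p a)) = pushInr f g q (C.res h (g.app p a))
    rw [f.compat, g.compat, pushIn_comm]

theorem pushRes_inl (f : A ⟶ B) (g : A ⟶ C) {p q : X.pt} (h : p ≤ q) (b : B.carrier p) :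
    pushRes f g h (pushInl f g p b) = pushInl f g q (B.res h b) :=
  pushDesc_inl f g p _ _ _ b

theorem pushRes_inr (f : A ⟶ B) (g : A ⟶ C) {p q : X.pt} (h : p ≤ q) (c : C.carrier p) :
    pushRes f g h (pushInr f g p c) = pushInr f g q (C.res h c) :=
  pushDesc_inr f g p _ _ _ c

/-- The pushout of algebras. -/
noncomputable def pushAlg (f : A ⟶ B) (g : A ⟶ C) : Alg X where
  carrier p := pushCarrier f g p
  res h := pushRes f g h
  res_algebraMap {p q} h a := by
    rw [push_algebraMap, pushRes_inl, B.res_algebraMap]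
    rfl
  res_self p z := by
    have : pushRes f g (le_refl p) = RingHom.id _ :=
      push_ext f g p (fun x => by rw [pushRes_inl, B.res_self]; rfl)
        (fun x => by rw [pushRes_inr, C.res_self]; rfl)
    exact RingHom.congr_fun this z
  res_comp {p q s} h h' z := by
    refine RingHom.congr_fun (push_ext f g p (F := (pushRes f g h').comp (pushRes f g h))
      (G := pushRes f g (h.trans h')) (fun x => ?_) (fun x => ?_)) z
    · rw [RingHom.comp_apply, pushRes_inl, pushRes_inl, pushRes_inl, B.res_comp]
    · rw [RingHom.comp_apply, pushRes_inr, pushRes_inr, pushRes_inr, C.res_comp]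

/-- The coprojections. -/
noncomputable def pushInlHom (f : A ⟶ B) (g : A ⟶ C) : B ⟶ pushAlg f g :=
  ⟨fun p => { pushInl f g p with commutes' := fun _ => rfl },
    fun {p q} h b => pushRes_inl f g h b⟩

/-- The coprojections. -/
noncomputable def pushInrHom (f : A ⟶ B) (g : A ⟶ C) : C ⟶ pushAlg f g :=
  ⟨fun p => { pushInr f g p with commutes' := fun a => (push_algebraMap' f g p a).symm },
    fun {p q} h b => pushRes_inr f g h b⟩

theorem pushAlg_isQcoh (hA : A.IsQcoh) (hB : B.IsQcoh) (hC : C.IsQcoh) (f : A ⟶ B) (g : A ⟶ C) :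
    (pushAlg f g).IsQcoh := by
  refine (qcoh_iff_alg _).mpr fun {p q} h => ?_
  letI := resAlgebra X h
  let T := X.ring q ⊗[X.ring p] (pushAlg f g).carrier p
  let ι : (pushAlg f g).carrier p →ₐ[X.ring p] T := Algebra.TensorProduct.includeRight
  have hι : ∀ a : X.ring p, ι (algebraMap _ _ a) = algebraMap (X.ring q) T (X.res h a) := fun a => by
    rw [ι.commutes, IsScalarTower.algebraMap_apply (X.ring p) (X.ring q) T]
    rfl
  obtain ⟨FB, hFB⟩ := bc_lift hB h (ι.toRingHom.comp (pushInl f g p)) fun a => hι a
  obtain ⟨FC, hFC⟩ := bc_lift hC h (ι.toRingHom.comp (pushInr f g p)) fun a => by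
    show ι (pushInr f g p (algebraMap _ _ a)) = _
    rw [← push_algebraMap']
    exact hι a
  have hagree : FB.comp (f.app q) = FC.comp (g.app q) := bc_ext hA h _ _ fun a => by
    show FB (f.app q (A.res h a)) = FC (g.app q (A.res h a))
    rw [← f.compat, ← g.compat, hFB, hFC]
    exact congrArg ι (pushIn_comm f g p a)
  have hag : ∀ a, FB.toRingHom (f.app q a) = FC.toRingHom (g.app q a) :=
    fun a => DFunLike.congr_fun hagree a
  let F : (pushAlg f g).carrier q →+* T := pushDesc f g q FB.toRingHom FC.toRingHom hag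
  let Fa : (pushAlg f g).carrier q →ₐ[X.ring q] T :=
    { F with commutes' := fun a => (pushDesc_inl f g q _ _ hag _).trans (FB.commutes a) }
  have hFl : ∀ x, Fa (pushInl f g q x) = FB x := fun x => pushDesc_inl f g q _ _ hag x
  have hFr : ∀ x, Fa (pushInr f g q x) = FC x := fun x => pushDesc_inr f g q _ _ hag x
  set Φ := algBC (pushAlg f g) h
  have hB' : ∀ b, Fa ((pushAlg f g).res h (pushInl f g p b)) = ι (pushInl f g p b) := fun b => by
    rw [show (pushAlg f g).res h (pushInl f g p b) = pushInl f g q (B.res h b) from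
      pushRes_inl f g h b]
    exact (hFl _).trans (hFB b)
  have hC' : ∀ c, Fa ((pushAlg f g).res h (pushInr f g p c)) = ι (pushInr f g p c) := fun c => by
    rw [show (pushAlg f g).res h (pushInr f g p c) = pushInr f g q (C.res h c) from
      pushRes_inr f g h c]
    exact (hFr _).trans (hFC c)
  have hres : (Fa.toRingHom.comp ((pushAlg f g).res h)) = ι.toRingHom :=
    push_ext f g p hB' hC'
  have left : ∀ z : T, Fa (Φ z) = z := by
    intro z
    induction z using TensorProduct.induction_on with
    | zero => simp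
    | tmul s a =>
        rw [algBC_tmul, map_mul, Fa.commutes,
          show Fa ((pushAlg f g).res h a) = ι a from RingHom.congr_fun hres a]
        simp [ι, T]
    | add x y hx hy => rw [map_add, map_add, hx, hy]
  have hΦι : ∀ a, Φ (ι a) = (pushAlg f g).res h a := fun a => by
    rw [show ι a = (1 : X.ring q) ⊗ₜ a from rfl]
    refine (algBC_tmul (pushAlg f g) h 1 a).trans ?_
    rw [map_one, one_mul]
  have rightB : ∀ x, Φ (FB x) = pushInl f g q x := by
    intro x
    refine DFunLike.congr_fun (bc_ext hB h (Φ.comp FB) ((pushInlHom f g).app q) fun b => ?_) x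
    show Φ (FB (B.res h b)) = pushInl f g q (B.res h b)
    rw [hFB]
    exact (hΦι _).trans (pushRes_inl f g h b)
  have rightC : ∀ x, Φ (FC x) = pushInr f g q x := by
    intro x
    refine DFunLike.congr_fun (bc_ext hC h (Φ.comp FC) ((pushInrHom f g).app q) fun c => ?_) x
    show Φ (FC (C.res h c)) = pushInr f g q (C.res h c)
    rw [hFC]
    exact (hΦι _).trans (pushRes_inr f g h c)
  have right : (Φ.toRingHom.comp Fa.toRingHom) = RingHom.id _ :=
    push_ext f g q
      (fun x => by
        show Φ (Fa (pushInl f g q x)) = pushInl f g q x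
        rw [hFl]
        exact rightB x)
      (fun x => by
        show Φ (Fa (pushInr f g q x)) = pushInr f g q x
        rw [hFr]
        exact rightC x)
  exact Function.bijective_iff_has_inverse.mpr ⟨Fa, left, fun w => RingHom.congr_fun right w⟩

theorem push_finite_etale {R A B C : Type u} [CommRing R] [CommRing A] [CommRing B] [CommRing C]
    [Algebra R A] [Algebra R B] [Algebra R C] [Algebra A B] [Algebra A C] [IsScalarTower R A B]
    [IsScalarTower R A C] [Algebra.Etale R A] [Algebra.Etale R B] [Algebra.Etale R C]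
    [Module.Finite R B] [Module.Finite R C] :
    Module.Finite R (B ⊗[A] C) ∧ Algebra.Etale R (B ⊗[A] C) := by
  haveI : Module.Finite A C := Module.Finite.of_restrictScalars_finite R A C
  haveI : Algebra.Etale A C := Algebra.Etale.of_restrictScalars R A C
  exact ⟨Module.Finite.trans B (B ⊗[A] C), Algebra.Etale.comp R B (B ⊗[A] C)⟩

theorem pushAlg_isEtCover {A B C : FEt X} (f : A ⟶ B) (g : A ⟶ C) :
    (pushAlg f.hom g.hom).IsEtCover := by
  refine ⟨pushAlg_isQcoh A.property.1 B.property.1 C.property.1 _ _, fun p => ?_⟩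
  letI := (f.hom.app p).toRingHom.toAlgebra
  letI := (g.hom.app p).toRingHom.toAlgebra
  haveI : IsScalarTower (X.ring p) (A.obj.carrier p) (B.obj.carrier p) :=
    .of_algebraMap_eq fun r => ((f.hom.app p).commutes r).symm
  haveI : IsScalarTower (X.ring p) (A.obj.carrier p) (C.obj.carrier p) :=
    .of_algebraMap_eq fun r => ((g.hom.app p).commutes r).symm
  obtain ⟨h1, h2⟩ := push_finite_etale (R := X.ring p) (A := A.obj.carrier p) (B := B.obj.carrier p)
    (C := C.obj.carrier p)
  have halg : (instAlgebraPush f.hom g.hom p :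
      Algebra (X.ring p) (B.obj.carrier p ⊗[A.obj.carrier p] C.obj.carrier p)) =
      Algebra.TensorProduct.leftAlgebra := Algebra.algebra_ext _ _ fun r => rfl
  change @Module.Finite (X.ring p) (B.obj.carrier p ⊗[A.obj.carrier p] C.obj.carrier p) _ _
      (instAlgebraPush f.hom g.hom p).toModule ∧
    @Algebra.Etale (X.ring p) (B.obj.carrier p ⊗[A.obj.carrier p] C.obj.carrier p) _ _
      (instAlgebraPush f.hom g.hom p)
  rw [halg]
  exact ⟨h1, h2⟩

/-- The pushout of two morphisms of étale covers. -/
noncomputable def pushObj {A B C : FEt X} (f : A ⟶ B) (g : A ⟶ C) : FEt X :=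
  ⟨pushAlg f.hom g.hom, pushAlg_isEtCover f g⟩

theorem pushObj_comm {A B C : FEt X} (f : A ⟶ B) (g : A ⟶ C) :
    f ≫ (ObjectProperty.homMk (pushInlHom f.hom g.hom) : B ⟶ pushObj f g) =
      g ≫ (ObjectProperty.homMk (pushInrHom f.hom g.hom) : C ⟶ pushObj f g) :=
  fet_hom_ext _ _ fun p a => pushIn_comm f.hom g.hom p a

/-- The pushout cocone of étale covers is colimiting. -/
noncomputable def pushIsColimit {A B C : FEt X} (f : A ⟶ B) (g : A ⟶ C) :
    IsColimit (PushoutCocone.mk _ _ (pushObj_comm f g)) := by
  let P : FEt X := pushObj f g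
  have hs : ∀ (s : PushoutCocone f g) (p : X.pt) (a : A.obj.carrier p),
      (app s.inl p).toRingHom (f.hom.app p a) = (app s.inr p).toRingHom (g.hom.app p a) :=
    fun s p a => DFunLike.congr_fun (congrArg (fun k => app k p) s.condition) a
  let D : ∀ (s : PushoutCocone f g) (p : X.pt), P.obj.carrier p →+* s.pt.obj.carrier p :=
    fun s p => pushDesc f.hom g.hom p (app s.inl p).toRingHom (app s.inr p).toRingHom (hs s p)
  have hDl : ∀ s p x, D s p (pushInl f.hom g.hom p x) = app s.inl p x := fun s p x =>
    pushDesc_inl _ _ p _ _ (hs s p) x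
  have hDr : ∀ s p x, D s p (pushInr f.hom g.hom p x) = app s.inr p x := fun s p x =>
    pushDesc_inr _ _ p _ _ (hs s p) x
  have hDc : ∀ (s : PushoutCocone f g) {p q : X.pt} (h : p ≤ q),
      (s.pt.obj.res h).comp (D s p) = (D s q).comp (pushRes f.hom g.hom h) := fun s {p q} h =>
    push_ext f.hom g.hom p
      (fun x => by
        exact (congrArg (s.pt.obj.res h) (hDl s p x)).trans ((s.inl.hom.compat h x).trans
          ((congrArg (D s q) (pushRes_inl f.hom g.hom h x)).trans (hDl s q _)).symm))
      (fun x => by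
        exact (congrArg (s.pt.obj.res h) (hDr s p x)).trans ((s.inr.hom.compat h x).trans
          ((congrArg (D s q) (pushRes_inr f.hom g.hom h x)).trans (hDr s q _)).symm))
  exact PushoutCocone.IsColimit.mk (pushObj_comm f g)
    (fun s => ObjectProperty.homMk
      ⟨fun p => { D s p with commutes' := fun a => (hDl s p _).trans ((app s.inl p).commutes a) },
        fun {p q} h z => RingHom.congr_fun (hDc s h) z⟩)
    (fun s => fet_hom_ext _ _ fun p x => hDl s p x)
    (fun s => fet_hom_ext _ _ fun p x => hDr s p x)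
    (fun s m hl hr => fet_hom_ext _ _ fun p z => RingHom.congr_fun (push_ext f.hom g.hom p
      (F := (app m p).toRingHom) (G := D s p)
      (fun x => (DFunLike.congr_fun (congrArg (fun k => app k p) hl) x).trans (hDl s p x).symm)
      (fun x => (DFunLike.congr_fun (congrArg (fun k => app k p) hr) x).trans (hDr s p x).symm)) z)

theorem hasPushouts : HasPushouts (FEt X) := by
  haveI : ∀ {A B C : FEt X} {f : A ⟶ B} {g : A ⟶ C}, HasColimit (span f g) :=
    fun {A B C f g} => ⟨⟨⟨_, pushIsColimit f g⟩⟩⟩
  exact hasPushouts_of_hasColimit_span _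

theorem str_isEtCover : (Alg.str X).IsEtCover := by
  refine ⟨(qcoh_iff_alg _).mpr fun {p q} h => ?_, fun p =>
    ⟨(inferInstance : Module.Finite (X.ring p) (X.ring p)),
      (inferInstance : Algebra.Etale (X.ring p) (X.ring p))⟩⟩
  letI := resAlgebra X h
  refine Function.bijective_iff_has_inverse.mpr
    ⟨fun b : X.ring q => b ⊗ₜ[X.ring p] (1 : X.ring p), fun z => ?_, fun b => ?_⟩
  · induction z using TensorProduct.induction_on with
    | zero => exact (congrArg (fun b : X.ring q => b ⊗ₜ[X.ring p] (1 : X.ring p))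
        (map_zero (algBC (Alg.str X) h))).trans (TensorProduct.zero_tmul _ _)
    | tmul s a =>
        refine (congrArg (fun b : X.ring q => b ⊗ₜ[X.ring p] (1 : X.ring p))
          (algBC_tmul (Alg.str X) h s a)).trans ?_
        show (s * X.res h a) ⊗ₜ[X.ring p] (1 : X.ring p) = s ⊗ₜ a
        rw [show s * X.res h a = (show X.ring p from a) • s by rw [Algebra.smul_def, mul_comm]; rfl,
          TensorProduct.smul_tmul, smul_eq_mul, mul_one]
        rfl
    | add x y hx hy =>
        refine (congrArg (fun b : X.ring q => b ⊗ₜ[X.ring p] (1 : X.ring p))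
          (map_add (algBC (Alg.str X) h) x y)).trans ?_
        exact (TensorProduct.add_tmul _ _ _).trans (congrArg₂ (· + ·) hx hy)
  · refine (algBC_tmul (Alg.str X) h b _).trans ?_
    show (show X.ring q from b) * X.res h 1 = b
    rw [map_one]
    exact mul_one _

theorem hasInitial : HasInitial (FEt X) := by
  let S : FEt X := ⟨Alg.str X, str_isEtCover⟩
  let i : ∀ A : FEt X, S ⟶ A := fun A => ObjectProperty.homMk
    ⟨fun p => (Algebra.ofId (X.ring p) (A.obj.carrier p) : _),
      fun {p q} h b => A.obj.res_algebraMap h b⟩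
  exact (IsInitial.ofUniqueHom (X := S) i fun A m => fet_hom_ext _ _ fun p a =>
    ((app m p).commutes a)).hasInitial

end SchFinLib
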