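import Groth.Agent.SchFinLib.AlgBC
import Groth.Agent.SchFinLib.Etale
import Mathlib.CategoryTheory.Limits.Shapes.BinaryProducts
import Mathlib.CategoryTheory.Limits.Shapes.Terminal
import Mathlib.CategoryTheory.Limits.Shapes.Pullback.HasPullback
import Mathlib.RingTheory.TensorProduct.Pi

/-!
# The category of étale covers of a finite ringed poset
-/

set_option autoImplicit false
set_option linter.style.haveILetI false

open TensorProduct CategoryTheory CategoryTheory.Limits

namespace SchFinLib

open SchFin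

universe u

variable {X : RSpace.{u}}

/-- The component of a morphism of étale covers at a point. -/
abbrev app {A B : FEt X} (f : A ⟶ B) (p : X.pt) : A.obj.carrier p →ₐ[X.ring p] B.obj.carrier p :=
  f.hom.app p

theorem fet_hom_ext {A B : FEt X} (f g : A ⟶ B) (h : ∀ p a, app f p a = app g p a) : f = g :=
  ObjectProperty.hom_ext _ (Alg.hom_ext _ _ fun p => AlgHom.ext (h p))

theorem app_comp {A B C : FEt X} (f : A ⟶ B) (g : B ⟶ C) (p : X.pt) (a : A.obj.carrier p) :
    app (f ≫ g) p a = app g p (app f p a) := rfl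

instance (A : FEt X) (p : X.pt) : Algebra.Etale (X.ring p) (A.obj.carrier p) := (A.property.2 p).2

instance (A : FEt X) (p : X.pt) : Module.Finite (X.ring p) (A.obj.carrier p) := (A.property.2 p).1

theorem mono_of_injective {A B : FEt X} (f : A ⟶ B) (hf : ∀ p, Function.Injective (app f p)) :
    Mono f :=
  ⟨fun g h hgh => fet_hom_ext _ _ fun p c => hf p (by
    rw [← app_comp, ← app_comp, hgh])⟩

theorem epi_of_surjective {A B : FEt X} (f : A ⟶ B) (hf : ∀ p, Function.Surjective (app f p)) :
    Epi f :=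
  ⟨fun g h hgh => fet_hom_ext _ _ fun p b => by
    obtain ⟨a, rfl⟩ := hf p b
    rw [← app_comp, ← app_comp, hgh]⟩

/-! ### Binary products -/

/-- The product of two algebras. -/
def prodAlg (A B : Alg X) : Alg X where
  carrier p := A.carrier p × B.carrier p
  res h := RingHom.prodMap (A.res h) (B.res h)
  res_algebraMap h a := Prod.ext (A.res_algebraMap h a) (B.res_algebraMap h a)
  res_self p b := Prod.ext (A.res_self p b.1) (B.res_self p b.2)
  res_comp h h' b := Prod.ext (A.res_comp h h' b.1) (B.res_comp h h' b.2)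

theorem bijective_prod (R S : Type u) [CommRing R] [CommRing S] [Algebra R S] {A A' B B' : Type u}
    [CommRing A] [CommRing A'] [CommRing B] [CommRing B'] [Algebra R A] [Algebra R B] [Algebra S A']
    [Algebra S B'] (gA : S ⊗[R] A →ₐ[S] A') (hA : Function.Bijective gA)
    (gB : S ⊗[R] B →ₐ[S] B') (hB : Function.Bijective gB) (g : S ⊗[R] (A × B) →ₐ[S] A' × B')
    (hg : ∀ s a b, g (s ⊗ₜ (a, b)) = (gA (s ⊗ₜ a), gB (s ⊗ₜ b))) : Function.Bijective g := by
  let e := TensorProduct.prodRight R S S A B
  have key : ∀ z, g z = (gA (e z).1, gB (e z).2) := by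
    intro z
    induction z using TensorProduct.induction_on with
    | zero => simp only [map_zero]; exact Prod.ext (map_zero _).symm (map_zero _).symm
    | tmul s a => obtain ⟨a, b⟩ := a; rw [hg]; simp [e]
    | add x y hx hy => simp [map_add, hx, hy]
  rw [show ⇑g = fun z => (gA (e z).1, gB (e z).2) from funext key]
  exact (hA.prodMap hB).comp e.bijective

theorem prodAlg_isQcoh {A B : Alg X} (hA : A.IsQcoh) (hB : B.IsQcoh) : (prodAlg A B).IsQcoh := by
  refine (qcoh_iff_alg _).mpr fun {p q} h => ?_
  letI := resAlgebra X h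
  refine bijective_prod (X.ring p) (X.ring q) (algBC A h) ((qcoh_iff_alg A).mp hA h) (algBC B h)
    ((qcoh_iff_alg B).mp hB h) _ fun s a b => ?_
  refine (algBC_tmul (prodAlg A B) h s _).trans ?_
  rw [algBC_tmul, algBC_tmul]
  rfl

/-- The product of two étale covers. -/
def prodObj (A B : FEt X) : FEt X :=
  ⟨prodAlg A.obj B.obj, prodAlg_isQcoh A.property.1 B.property.1, fun p =>
    ⟨(inferInstance : Module.Finite (X.ring p) (A.obj.carrier p × B.obj.carrier p)),
      etale_prod (X.ring p) (A.obj.carrier p) (B.obj.carrier p)⟩⟩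

/-- first projection -/
def prodFst (A B : FEt X) : prodObj A B ⟶ A :=
  ObjectProperty.homMk ⟨fun _ => AlgHom.fst _ _ _, fun _ _ => rfl⟩

/-- second projection -/
def prodSnd (A B : FEt X) : prodObj A B ⟶ B :=
  ObjectProperty.homMk ⟨fun _ => AlgHom.snd _ _ _, fun _ _ => rfl⟩

/-- The component of the lift into a product diagram. -/
noncomputable def fanInv {P A B T : FEt X} (f : P ⟶ A) (g : P ⟶ B) (a : T ⟶ A) (b : T ⟶ B) (p : X.pt)
    (h : Function.Bijective ((app f p).prod (app g p))) :
    T.obj.carrier p →ₐ[X.ring p] P.obj.carrier p :=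
  (AlgEquiv.ofBijective ((app f p).prod (app g p)) h).symm.toAlgHom.comp
    ((app a p).prod (app b p))

theorem fanInv_spec {P A B T : FEt X} (f : P ⟶ A) (g : P ⟶ B) (a : T ⟶ A) (b : T ⟶ B) (p : X.pt)
    (h : Function.Bijective ((app f p).prod (app g p))) (t : T.obj.carrier p) :
    app f p (fanInv f g a b p h t) = app a p t ∧ app g p (fanInv f g a b p h t) = app b p t :=
  Prod.ext_iff.mp
    ((AlgEquiv.ofBijective ((app f p).prod (app g p)) h).apply_symm_apply (app a p t, app b p t))

/-- A pair of morphisms that is bijective at every point is a product diagram. -/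
noncomputable def fanIsLimit {P A B : FEt X} (f : P ⟶ A) (g : P ⟶ B)
    (h : ∀ p, Function.Bijective ((app f p).prod (app g p))) :
    IsLimit (BinaryFan.mk f g) :=
  BinaryFan.IsLimit.mk _
    (fun {T} a b => ObjectProperty.homMk
      ⟨fun p => fanInv f g a b p (h p), fun {p q} hpq t => (h q).1 (Prod.ext
        ((f.hom.compat hpq (fanInv f g a b p (h p) t)).symm.trans
          ((congrArg (A.obj.res hpq) (fanInv_spec f g a b p (h p) t).1).trans
            ((a.hom.compat hpq t).trans (fanInv_spec f g a b q (h q) _).1.symm)))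
        ((g.hom.compat hpq (fanInv f g a b p (h p) t)).symm.trans
          ((congrArg (B.obj.res hpq) (fanInv_spec f g a b p (h p) t).2).trans
            ((b.hom.compat hpq t).trans (fanInv_spec f g a b q (h q) _).2.symm))))⟩)
    (fun {T} a b => fet_hom_ext _ _ fun p t => (fanInv_spec f g a b p (h p) t).1)
    (fun {T} a b => fet_hom_ext _ _ fun p t => (fanInv_spec f g a b p (h p) t).2)
    (fun {T} a b m hf hg => fet_hom_ext _ _ fun p t => (h p).1 (by
      refine Prod.ext ?_ ?_
      · exact (DFunLike.congr_fun (congrArg (fun k => app k p) hf) t).trans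
          (fanInv_spec f g a b p (h p) t).1.symm
      · exact (DFunLike.congr_fun (congrArg (fun k => app k p) hg) t).trans
          (fanInv_spec f g a b p (h p) t).2.symm))

theorem hasBinaryProducts : HasBinaryProducts (FEt X) := by
  haveI : ∀ A B : FEt X, HasLimit (pair A B) := fun A B =>
    ⟨⟨⟨BinaryFan.mk (prodFst A B) (prodSnd A B),
      fanIsLimit _ _ fun p => Function.bijective_id⟩⟩⟩
  exact hasBinaryProducts_of_hasLimit_pair _

/-- The zero algebra. -/
def zeroAlg (X : RSpace.{u}) : Alg X where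
  carrier p := PEmpty.{u + 1} → X.ring p
  res h := RingHom.pi fun i => i.elim
  res_algebraMap _ _ := funext fun i => i.elim
  res_self _ _ := funext fun i => i.elim
  res_comp _ _ _ := funext fun i => i.elim

theorem zeroAlg_subsingleton (p : X.pt) : Subsingleton ((zeroAlg X).carrier p) :=
  ⟨fun a b => funext fun i => i.elim⟩

theorem zeroAlg_isEtCover : (zeroAlg X).IsEtCover := by
  refine ⟨(qcoh_iff_alg _).mpr fun {p q} h => ?_, fun p =>
    ⟨(inferInstance : Module.Finite (X.ring p) (PEmpty.{u + 1} → X.ring p)),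
      (inferInstance : Algebra.Etale (X.ring p) (PEmpty.{u + 1} → X.ring p))⟩⟩
  letI := resAlgebra X h
  haveI := zeroAlg_subsingleton (X := X) q
  haveI := zeroAlg_subsingleton (X := X) p
  exact ⟨fun a b _ => Subsingleton.elim _ _, fun b => ⟨0, Subsingleton.elim _ _⟩⟩

theorem hasTerminal : HasTerminal (FEt X) := by
  let Z : FEt X := ⟨zeroAlg X, zeroAlg_isEtCover⟩
  haveI : ∀ p, Subsingleton (Z.obj.carrier p) := zeroAlg_subsingleton
  let t : ∀ A : FEt X, A ⟶ Z := fun A => ObjectProperty.homMk
    ⟨fun p => Pi.algHom (X.ring p) (fun _ : PEmpty.{u + 1} => X.ring p) fun i => i.elim,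
      fun _ _ => Subsingleton.elim _ _⟩
  exact (IsTerminal.ofUniqueHom (Y := Z) t fun A m => fet_hom_ext _ _ fun p a =>
    Subsingleton.elim _ _).hasTerminal

/-! ### Idempotent factors -/

/-- Base change of the factor cut out by an idempotent. -/
theorem bijective_factor (R S : Type u) [CommRing R] [CommRing S] [Algebra R S] {A A' Q Q' : Type u}
    [CommRing A] [CommRing A'] [CommRing Q] [CommRing Q'] [Algebra R A] [Algebra R Q] [Algebra S A']
    [Algebra S Q'] {e : A} {e' : A'} (he : IsIdempotentElem e) (he' : IsIdempotentElem e')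
    (π : A →ₐ[R] Q) (hπ : Function.Surjective π)
    (hπk : ∀ a, π a = 0 ↔ a ∈ Ideal.span {1 - e}) (π' : A' →ₐ[S] Q')
    (hπ' : Function.Surjective π') (hπ'k : ∀ a, π' a = 0 ↔ a ∈ Ideal.span {1 - e'})
    (g : S ⊗[R] A →ₐ[S] A') (hg : Function.Bijective g) (hge : g (1 ⊗ₜ e) = e')
    (gQ : S ⊗[R] Q →ₐ[S] Q') (hcomm : ∀ s a, gQ (s ⊗ₜ π a) = π' (g (s ⊗ₜ a))) :
    Function.Bijective gQ := by
  let πT : S ⊗[R] A →ₐ[S] S ⊗[R] Q := Algebra.TensorProduct.map (AlgHom.id _ _) π
  have hπT : Function.Surjective πT := fun z => by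
    induction z using TensorProduct.induction_on with
    | zero => exact ⟨0, map_zero _⟩
    | tmul s b =>
        obtain ⟨a, rfl⟩ := hπ b
        exact ⟨s ⊗ₜ a, by simp [πT]⟩
    | add x y hx hy =>
        obtain ⟨x, rfl⟩ := hx
        obtain ⟨y, rfl⟩ := hy
        exact ⟨x + y, map_add _ _ _⟩
  have key : ∀ z, gQ (πT z) = π' (g z) := by
    intro z
    induction z using TensorProduct.induction_on with
    | zero => simp
    | tmul s a => simpa [πT] using hcomm s a
    | add x y hx hy => simp only [map_add, hx, hy]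
  have he1 : π e = 1 := by
    rw [← sub_eq_zero, ← map_one π, ← map_sub, hπk]
    exact Ideal.mem_span_singleton.mpr ⟨-1, by ring⟩
  refine ⟨(injective_iff_map_eq_zero gQ).mpr fun z hz => ?_, fun b => ?_⟩
  · obtain ⟨z, rfl⟩ := hπT z
    rw [key, hπ'k] at hz
    obtain ⟨c, hc⟩ := Ideal.mem_span_singleton.mp hz
    have hz0 : e' * g z = 0 := by
      rw [hc, ← mul_assoc, mul_sub, mul_one, he'.eq, sub_self, zero_mul]
    have : ((1 : S) ⊗ₜ[R] e) * z = 0 := by
      apply hg.1
      rw [map_mul, hge, hz0, map_zero]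
    calc πT z = πT (1 ⊗ₜ e) * πT z := by
          rw [show πT ((1 : S) ⊗ₜ e) = 1 by simp [πT, he1]; rfl, one_mul]
      _ = 0 := by rw [← map_mul, this, map_zero]
  · obtain ⟨a, rfl⟩ := hπ' b
    obtain ⟨z, rfl⟩ := hg.2 a
    exact ⟨πT z, key z⟩

/-- A compatible family of idempotents of an algebra. -/
structure IdemFam (A : Alg X) where
  /-- the idempotent at a point -/
  e : ∀ p, A.carrier p
  idem : ∀ p, IsIdempotentElem (e p)
  compat : ∀ {p q : X.pt} (h : p ≤ q), A.res h (e p) = e q

/-- The complementary family. -/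
def IdemFam.compl {A : Alg X} (E : IdemFam A) : IdemFam A where
  e p := 1 - E.e p
  idem p := (E.idem p).one_sub
  compat h := by rw [map_sub, map_one, E.compat h]

/-- The factor of an algebra cut out by a compatible family of idempotents. -/
def factorAlg (A : Alg X) (E : IdemFam A) : Alg X where
  carrier p := A.carrier p ⧸ Ideal.span {1 - E.e p}
  res {p q} h := Ideal.quotientMap _ (A.res h) (by
    rw [Ideal.span_singleton_le_iff_mem, Ideal.mem_comap, map_sub, map_one, E.compat h]
    exact Ideal.mem_span_singleton_self _)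
  res_algebraMap h a := congrArg (Ideal.Quotient.mk _) (A.res_algebraMap h a)
  res_self p b := by
    obtain ⟨b, rfl⟩ := Ideal.Quotient.mk_surjective b
    exact congrArg (Ideal.Quotient.mk _) (A.res_self p b)
  res_comp h h' b := by
    obtain ⟨b, rfl⟩ := Ideal.Quotient.mk_surjective b
    exact congrArg (Ideal.Quotient.mk _) (A.res_comp h h' b)

theorem factorAlg_isQcoh {A : Alg X} (hA : A.IsQcoh) (E : IdemFam A) : (factorAlg A E).IsQcoh := by
  refine (qcoh_iff_alg _).mpr fun {p q} h => ?_
  letI := resAlgebra X h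
  refine bijective_factor (X.ring p) (X.ring q) (E.idem p) (E.idem q)
    (Ideal.Quotient.mkₐ _ _) Ideal.Quotient.mk_surjective (fun _ => Ideal.Quotient.eq_zero_iff_mem)
    (Ideal.Quotient.mkₐ _ _) Ideal.Quotient.mk_surjective (fun _ => Ideal.Quotient.eq_zero_iff_mem)
    (algBC A h) ((qcoh_iff_alg A).mp hA h)
    (by rw [algBC_tmul, map_one, one_mul, E.compat h]) _ (fun s a => ?_)
  refine (algBC_tmul (factorAlg A E) h s _).trans ?_
  rw [algBC_tmul]
  rfl

/-- The factor of an étale cover cut out by a compatible family of idempotents. -/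
def factorObj (A : FEt X) (E : IdemFam A.obj) : FEt X :=
  ⟨factorAlg A.obj E, factorAlg_isQcoh A.property.1 E, fun p =>
    ⟨(inferInstance : Module.Finite (X.ring p) (A.obj.carrier p ⧸ Ideal.span {1 - E.e p})),
      etale_quotient_idem (X.ring p) (E.e p) (E.idem p)⟩⟩

/-- The projection to a factor. -/
def toFactor (A : FEt X) (E : IdemFam A.obj) : A ⟶ factorObj A E :=
  ObjectProperty.homMk ⟨fun _ => Ideal.Quotient.mkₐ _ _, fun _ _ => rfl⟩

theorem toFactor_surjective (A : FEt X) (E : IdemFam A.obj) (p : X.pt) :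
    Function.Surjective (app (toFactor A E) p) :=
  Ideal.Quotient.mk_surjective

theorem toFactor_eq_zero_iff (A : FEt X) (E : IdemFam A.obj) (p : X.pt) (a : A.obj.carrier p) :
    app (toFactor A E) p a = 0 ↔ E.e p * a = 0 := by
  refine Ideal.Quotient.eq_zero_iff_mem.trans ⟨fun h => ?_, fun h => ?_⟩
  · obtain ⟨c, hc⟩ := Ideal.mem_span_singleton.mp h
    rw [hc, ← mul_assoc, mul_sub, mul_one, (E.idem p).eq, sub_self, zero_mul]
  · refine Ideal.mem_span_singleton.mpr ⟨a, ?_⟩
    rw [sub_mul, one_mul, h, sub_zero]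

/-! ### The image of a morphism -/

theorem exists_imageFam (hX : X.IsFinSp) {A B : FEt X} (f : A ⟶ B) :
    ∃ E : IdemFam A.obj, ∀ p, IsImIdem (app f p).toRingHom (E.e p) := by
  choose e he using fun p => exists_imIdem_algHom (X.ring p) (app f p)
  refine ⟨⟨e, fun p => (he p).idem, fun {p q} h => ?_⟩, he⟩
  letI := resAlgebra X h
  haveI : Module.Flat (X.ring p) (X.ring q) := hX.2 p q h
  have hA := (qcoh_iff_alg A.obj).mp A.property.1 h
  have hB := (qcoh_iff_alg B.obj).mp B.property.1 h
  have := IsImIdem.map_baseChange (app f p) (app f q) (algBC A.obj h) (algBC B.obj h) hA.2 hB.1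
    (fun a => by rw [algBC_tmul, algBC_tmul, map_one, one_mul, map_one, one_mul, ← f.hom.compat])
    (he p)
  rw [algBC_tmul, map_one, one_mul] at this
  exact this.unique (he q)

theorem exists_image (hX : X.IsFinSp) {A B : FEt X} (f : A ⟶ B) :
    ∃ (Q : FEt X) (g : A ⟶ Q) (h : Q ⟶ B), g ≫ h = f ∧
      (∀ p, Function.Surjective (app g p)) ∧ ∀ p, Function.Injective (app h p) := by
  obtain ⟨E, hE⟩ := exists_imageFam hX f
  have hle : ∀ p, Ideal.span {1 - E.e p} ≤ RingHom.ker (app f p) := fun p => by
    rw [Ideal.span_singleton_le_iff_mem, RingHom.mem_ker, map_sub, map_one,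
      show app f p (E.e p) = 1 from (hE p).map_one, sub_self]
  let hm : factorObj A E ⟶ B := ObjectProperty.homMk
    ⟨fun p => Ideal.Quotient.liftₐ _ (app f p) fun a ha => hle p ha, fun {p q} h b => by
      obtain ⟨a, rfl⟩ := Ideal.Quotient.mk_surjective b
      exact f.hom.compat h a⟩
  refine ⟨factorObj A E, toFactor A E, hm, fet_hom_ext _ _ fun p a => rfl,
    toFactor_surjective A E, fun p => ?_⟩
  refine (injective_iff_map_eq_zero (app hm p)).mpr fun b hb => ?_
  obtain ⟨a, rfl⟩ := Ideal.Quotient.mk_surjective b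
  exact (toFactor_eq_zero_iff A E p a).mpr ((hE p).ker_le a hb)

theorem injective_of_mono (hX : X.IsFinSp) {A B : FEt X} (f : A ⟶ B) [Mono f] (p : X.pt) :
    Function.Injective (app f p) := by
  obtain ⟨E, hE⟩ := exists_imageFam hX f
  let g₁ : prodObj A A ⟶ A := prodFst A A
  let g₂ : prodObj A A ⟶ A := ObjectProperty.homMk
    ⟨fun r =>
      { toFun := fun ab => E.e r * ab.1 + (1 - E.e r) * ab.2
        map_one' := by show E.e r * 1 + (1 - E.e r) * 1 = 1; ring
        map_mul' := fun x y => by
          show E.e r * (x.1 * y.1) + (1 - E.e r) * (x.2 * y.2) =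
            (E.e r * x.1 + (1 - E.e r) * x.2) * (E.e r * y.1 + (1 - E.e r) * y.2)
          have h := (E.idem r).eq
          linear_combination (x.1 - x.2) * (y.2 - y.1) * h
        map_zero' := by show E.e r * 0 + (1 - E.e r) * 0 = 0; ring
        map_add' := fun x y => by
          show E.e r * (x.1 + y.1) + (1 - E.e r) * (x.2 + y.2) =
            (E.e r * x.1 + (1 - E.e r) * x.2) + (E.e r * y.1 + (1 - E.e r) * y.2)
          ring
        commutes' := fun a => by
          show E.e r * algebraMap _ _ a + (1 - E.e r) * algebraMap _ _ a = _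
          ring },
      fun {r s} h x => by
        show A.obj.res h (E.e r * x.1 + (1 - E.e r) * x.2) =
          E.e s * A.obj.res h x.1 + (1 - E.e s) * A.obj.res h x.2
        rw [map_add, map_mul, map_mul, map_sub, map_one, E.compat h]⟩
  have hg : g₁ ≫ f = g₂ ≫ f := fet_hom_ext _ _ fun r x => by
    show app f r x.1 = app f r (E.e r * x.1 + (1 - E.e r) * x.2)
    rw [map_add, map_mul, map_mul, map_sub, map_one, show app f r (E.e r) = 1 from (hE r).map_one]
    ring
  have he : (1 : A.obj.carrier p) = E.e p := by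
    have := DFunLike.congr_fun (congrArg (fun k => app k p) ((cancel_mono f).mp hg))
      ((1 : A.obj.carrier p), (0 : A.obj.carrier p))
    change (1 : A.obj.carrier p) = E.e p * 1 + (1 - E.e p) * 0 at this
    rw [mul_one, mul_zero, add_zero] at this
    exact this
  refine (injective_iff_map_eq_zero (app f p)).mpr fun a ha => ?_
  have := (hE p).ker_le a ha
  rwa [← he, one_mul] at this

theorem exists_complement (hX : X.IsFinSp) {A B : FEt X} (f : A ⟶ B)
    (hf : ∀ p, Function.Surjective (app f p)) :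
    ∃ (D : FEt X) (π : A ⟶ D), Nonempty (IsLimit (BinaryFan.mk f π)) := by
  obtain ⟨E, hE⟩ := exists_imageFam hX f
  refine ⟨factorObj A E.compl, toFactor A E.compl, ⟨fanIsLimit _ _ fun p => ⟨?_, ?_⟩⟩⟩
  · intro a b hab
    rw [← sub_eq_zero]
    have h1 : E.e p * (a - b) = 0 := (hE p).ker_le _ (by
      show app f p (a - b) = 0
      rw [map_sub, sub_eq_zero]; exact congrArg Prod.fst hab)
    have h2 : (1 - E.e p) * (a - b) = 0 := (toFactor_eq_zero_iff A E.compl p _).mp (by
      rw [map_sub, sub_eq_zero]; exact congrArg Prod.snd hab)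
    linear_combination h1 + h2
  · rintro ⟨b, d⟩
    obtain ⟨a, rfl⟩ := hf p b
    obtain ⟨c, rfl⟩ := toFactor_surjective A E.compl p d
    refine ⟨E.e p * a + (1 - E.e p) * c, Prod.ext ?_ ?_⟩
    · show app f p _ = _
      rw [map_add, map_mul, map_mul, map_sub, map_one,
        show app f p (E.e p) = 1 from (hE p).map_one]
      ring
    · show app (toFactor A E.compl) p _ = app (toFactor A E.compl) p c
      rw [← sub_eq_zero, ← map_sub, toFactor_eq_zero_iff]
      show (1 - E.e p) * _ = 0
      linear_combination (a - c) * -(E.idem p).eq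

end SchFinLib
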