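import Groth.Agent.SchFinLib.Pairs

/-!
# The geometric point attached to a maximal pair
-/

set_option autoImplicit false
set_option linter.style.haveILetI false

open TensorProduct

namespace SchFinLib

open SchFin

universe u

variable {X : RSpace.{u}}

/-- A semilinear map into a trivial module with trivial base change is a base change. -/
theorem isBCAlong_of_tensor_subsingleton {R S M N : Type u} [CommRing R] [CommRing S]
    (g : R →+* S) [AddCommGroup M] [AddCommGroup N] [Module R M] [Module S N] [Subsingleton N]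
    (h : letI := g.toAlgebra; Subsingleton (S ⊗[R] M)) (f : M →ₛₗ[g] N) : IsBCAlong g f := by
  letI : Algebra R S := g.toAlgebra
  letI : Module R N := Module.compHom N g
  haveI : IsScalarTower R S N := IsScalarTower.of_algebraMap_smul fun _ _ => rfl
  haveI := h
  exact IsBaseChange.of_equiv
    (f := ({ toFun := f, map_add' := f.map_add, map_smul' := f.map_smulₛₗ } : M →ₗ[R] N))
    (LinearEquiv.ofBijective (0 : S ⊗[R] M →ₗ[S] N)
      ⟨fun a b _ => Subsingleton.elim a b, fun b => ⟨0, Subsingleton.elim _ _⟩⟩)
    fun m => Subsingleton.elim _ _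

/-- A semilinear map between trivial modules is a base change. -/
theorem isBCAlong_of_subsingleton {R S M N : Type u} [CommRing R] [CommRing S] (g : R →+* S)
    [AddCommGroup M] [AddCommGroup N] [Module R M] [Module S N] [Subsingleton M] [Subsingleton N]
    (f : M →ₛₗ[g] N) : IsBCAlong g f := by
  letI : Algebra R S := g.toAlgebra
  refine isBCAlong_of_tensor_subsingleton g (subsingleton_of_forall_eq 0 fun z => ?_) f
  induction z using TensorProduct.induction_on with
  | zero => rfl
  | tmul s m => rw [Subsingleton.elim m 0, TensorProduct.tmul_zero]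
  | add x y hx hy => rw [hx, hy, add_zero]

/-- A bijective semilinear map over an epimorphism of rings is a base change. -/
theorem isBCAlong_of_epi {R S M N : Type u} [CommRing R] [CommRing S] (g : R →+* S)
    [AddCommGroup M] [AddCommGroup N] [Module R M] [Module S N]
    (hepi : ∀ {T : Type u} [CommRing T] (a b : S →+* T), a.comp g = b.comp g → a = b)
    (f : M →ₛₗ[g] N) (hf : Function.Bijective f) : IsBCAlong g f := by
  letI : Algebra R S := g.toAlgebra
  letI : Module R N := Module.compHom N g
  haveI : IsScalarTower R S N := IsScalarTower.of_algebraMap_smul fun _ _ => rfl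
  let fl : M →ₗ[R] N := { toFun := f, map_add' := f.map_add, map_smul' := f.map_smulₛₗ }
  have key : ∀ a b : S, a ⊗ₜ[R] b = (a * b) ⊗ₜ[R] (1 : S) := by
    intro a b
    have h := RingHom.congr_fun (hepi
      (Algebra.TensorProduct.includeLeftRingHom (R := R) (A := S) (B := S))
      (Algebra.TensorProduct.includeRight (R := R) (A := S) (B := S)).toRingHom
      (RingHom.ext fun r => Algebra.TensorProduct.algebraMap_apply' (R := R) (A := S) (B := S) r)) b
    change b ⊗ₜ[R] (1 : S) = (1 : S) ⊗ₜ[R] b at h
    calc a ⊗ₜ[R] b = (a ⊗ₜ[R] (1 : S)) * ((1 : S) ⊗ₜ[R] b) := by simp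
      _ = (a ⊗ₜ[R] (1 : S)) * (b ⊗ₜ[R] (1 : S)) := by rw [h]
      _ = _ := by simp
  have hsm : ∀ (s : S) (n : N), s ⊗ₜ[R] n = (1 : S) ⊗ₜ[R] (s • n) := by
    intro s n
    let L : S ⊗[R] S →ₗ[R] S ⊗[R] N :=
      ((LinearMap.toSpanSingleton S N n).restrictScalars R).lTensor S
    have e1 := congrArg L ((key s 1).trans ((congrArg (· ⊗ₜ[R] (1 : S))
      (mul_comm s 1)).trans (key 1 s).symm))
    simpa [L] using e1
  let e : S ⊗[R] M ≃ₗ[S] N := LinearEquiv.ofBijective (fl.liftBaseChange S) (by
    let inv : N → S ⊗[R] M := fun n => (1 : S) ⊗ₜ[R] ((Equiv.ofBijective f hf).symm n)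
    have hM : ∀ (s : S) (m : M), (1 : S) ⊗ₜ[R] ((Equiv.ofBijective f hf).symm (s • f m)) =
        s ⊗ₜ[R] m := by
      intro s m
      have hi : Function.Injective (fl.lTensor S) :=
        (LinearEquiv.lTensor S (LinearEquiv.ofBijective fl hf)).injective
      apply hi
      rw [LinearMap.lTensor_tmul, LinearMap.lTensor_tmul]
      show (1 : S) ⊗ₜ[R] f ((Equiv.ofBijective f hf).symm (s • f m)) = s ⊗ₜ[R] f m
      rw [Equiv.ofBijective_apply_symm_apply f hf]
      exact (hsm s (f m)).symm
    refine Function.bijective_iff_has_inverse.mpr ⟨inv, fun z => ?_, fun n => ?_⟩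
    · induction z using TensorProduct.induction_on with
      | zero =>
          show (1 : S) ⊗ₜ[R] ((Equiv.ofBijective f hf).symm _) = 0
          rw [map_zero, show (Equiv.ofBijective f hf).symm 0 = 0 from
            (Equiv.symm_apply_eq _).mpr (map_zero f).symm, TensorProduct.tmul_zero]
      | tmul s m =>
          show (1 : S) ⊗ₜ[R] ((Equiv.ofBijective f hf).symm (fl.liftBaseChange S (s ⊗ₜ m))) = _
          rw [LinearMap.liftBaseChange_tmul]
          exact hM s m
      | add x y hx hy =>
          show (1 : S) ⊗ₜ[R] _ = _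
          conv_rhs => rw [← hx, ← hy]
          show _ = (1 : S) ⊗ₜ[R] _ + (1 : S) ⊗ₜ[R] _
          rw [← TensorProduct.tmul_add]
          congr 1
          apply hf.1
          simp only [map_add]
          rw [Equiv.ofBijective_apply_symm_apply f hf, Equiv.ofBijective_apply_symm_apply f hf,
            Equiv.ofBijective_apply_symm_apply f hf]
    · show fl.liftBaseChange S ((1 : S) ⊗ₜ[R] _) = n
      rw [LinearMap.liftBaseChange_tmul, one_smul]
      exact Equiv.ofBijective_apply_symm_apply f hf n)
  exact IsBaseChange.of_equiv (f := fl) e fun m => by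
    show fl.liftBaseChange S ((1 : S) ⊗ₜ m) = fl m
    rw [LinearMap.liftBaseChange_tmul, one_smul]

variable (X)

variable {Ω : Type u} [Field Ω] [IsAlgClosed Ω]

theorem H_point_subsingleton {U : Set (RSpace.point Ω).pt} {R : Type u} [CommRing R]
    (φ : Coef (RSpace.point Ω) U R) (n : ℕ) (h : n ≠ 0 ∨ U = ∅) :
    Subsingleton (H φ (RSpace.point Ω).str n) := by
  haveI : IsEmpty (Chain U n) := ⟨fun σ => by
    rcases h with h | h
    · have h0 : σ 0 = σ (Fin.last n) := Subtype.ext (Subsingleton.elim (α := PUnit.{u + 1}) _ _)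
      have := σ.injective h0
      exact h (by simpa [Fin.ext_iff] using this.symm)
    · subst h
      exact (σ 0).2⟩
  haveI : Subsingleton (Cochain φ (RSpace.point Ω).str n) :=
    ⟨fun a b => funext fun σ => isEmptyElim σ⟩
  haveI : Subsingleton ↥(cocycles φ (RSpace.point Ω).str n) :=
    ⟨fun a b => Subtype.ext (Subsingleton.elim _ _)⟩
  exact ⟨fun a b => by
    obtain ⟨a, rfl⟩ := Submodule.mkQ_surjective _ a
    obtain ⟨b, rfl⟩ := Submodule.mkQ_surjective _ b
    rw [Subsingleton.elim a b]⟩

theorem resH_id_bijective {Y : RSpace.{u}} {U : Set Y.pt} {R : Type u} [CommRing R]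
    {φ φ' : Coef Y U R} (s : Coef.Sub φ φ') (n : ℕ) (hn : n = 0) :
    Function.Bijective (resH Y.str s n) := by
  subst hn
  have : ∀ x, resH Y.str s 0 (secOf φ x) = secOf φ' x := fun x => rfl
  refine ⟨fun a b hab => ?_, fun b => ?_⟩
  · obtain ⟨a, rfl⟩ := (secOf_bijective φ).2 a
    obtain ⟨b, rfl⟩ := (secOf_bijective φ).2 b
    rw [this, this] at hab
    rw [(secOf_bijective φ').1 hab]
  · obtain ⟨b, rfl⟩ := (secOf_bijective φ').2 b
    exact ⟨secOf φ b, this b⟩

/-- The morphism from the one-point space attached to a ring map out of a point. -/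
def pointHom (x : X.pt) (φ : X.ring x →+* Ω) : Hom (RSpace.point Ω) X where
  fn _ := x
  mono _ _ _ := le_rfl
  app _ := φ
  compat _ b := congrArg φ (X.res_self x b).symm

theorem pointHom_isSchematic {X : RSpace.{u}} (hX : X.IsSchematic) (hff : MeetFF X) (a : X.Pair)
    (ha : ∀ b : X.Pair, X.PairRel a b → b.1 ≤ a.1) (φ : a.κ →+* Ω) :
    (pointHom X a.1 (φ.comp (algebraMap (X.ring a.1) a.κ))).IsSchematic := by
  refine ⟨⟨fun _ => (inferInstance : IsNoetherianRing Ω), fun _ _ _ =>
    RingHom.Flat.of_bijective Function.bijective_id⟩, hX.1, fun n x x' hx y y' hy => ?_⟩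
  set ψ := φ.comp (algebraMap (X.ring a.1) a.κ) with hψ
  set f := pointHom X a.1 ψ with hf
  obtain rfl : x = x' := Subsingleton.elim (α := PUnit.{u + 1}) x x'
  have hsub : ∀ z, ¬ z ≤ a.1 → f.wedge x z = ∅ := fun z hz =>
    Set.eq_empty_iff_forall_notMem.mpr fun q hq => hz hq.2
  refine ⟨?_, ?_⟩
  · by_cases hn : n = 0
    · refine isBCAlong_of_epi _ (fun {T} _ b c h => RingHom.ext fun r => ?_) _
        (resH_id_bijective (f.subSrc hx y) n hn)
      exact RingHom.congr_fun h r
    · haveI := fun {R : Type u} [CommRing R] (U : Set (RSpace.point Ω).pt)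
        (c : Coef (RSpace.point Ω) U R) => H_point_subsingleton c n (Or.inl hn)
      exact isBCAlong_of_subsingleton _ _
  · by_cases hn : n = 0
    · subst hn
      by_cases hy' : y' ≤ a.1
      · have hU : f.wedge x y' = f.wedge x y :=
          Set.ext fun q => ⟨fun h => ⟨h.1, hy.trans h.2⟩, fun h => ⟨h.1, hy'⟩⟩
        refine isBCAlong_of_epi _ (fun {T} _ b c h => res_epi hX hy b c h) _ ?_
        have key : Function.Bijective (restrRing (RSpace.point Ω) (f.subTgt x hy).le) :=
          Function.bijective_iff_has_inverse.mpr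
            ⟨restrRing (RSpace.point Ω) hU.ge, fun _ => rfl, fun _ => rfl⟩
        refine ⟨fun u v huv => ?_, fun v => ?_⟩
        · obtain ⟨u, rfl⟩ := (secOf_bijective _).2 u
          obtain ⟨v, rfl⟩ := (secOf_bijective _).2 v
          have h2 := ((resH_secOf (f.subTgt x hy) u).symm.trans huv).trans
            (resH_secOf (f.subTgt x hy) v)
          rw [key.1 ((secOf_bijective _).1 h2)]
        · obtain ⟨v, rfl⟩ := (secOf_bijective _).2 v
          obtain ⟨u, rfl⟩ := key.2 v
          exact ⟨_, resH_secOf _ u⟩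
      · haveI := H_point_subsingleton (Coef.ofHom f y' (f.wedge x y') (f.wedge_subset_pre x y')) 0
          (Or.inr (hsub y' hy'))
        by_cases hy1 : y ≤ a.1
        · letI : Algebra (X.ring y) (X.ring y') := (X.res hy).toAlgebra
          refine isBCAlong_of_tensor_subsingleton _ ?_ _
          by_contra hnt
          rw [not_subsingleton_iff_nontrivial] at hnt
          let cy := coefHom (Coef.ofHom f y (f.wedge x y) (f.wedge_subset_pre x y))
          letI : Algebra (X.ring y) ((RSpace.point Ω).sectRing (f.wedge x y)) := cy.toAlgebra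
          let e : (RSpace.point Ω).sectRing (f.wedge x y) ≃ₗ[X.ring y]
              H (Coef.ofHom f y (f.wedge x y) (f.wedge_subset_pre x y))
                (RSpace.point Ω).str 0 :=
            LinearEquiv.ofBijective
              { toFun := secOf _
                map_add' := map_add _
                map_smul' := fun r s => secOf_smul _ r s } (secOf_bijective _)
          haveI : Nontrivial (X.ring y' ⊗[X.ring y] (RSpace.point Ω).sectRing (f.wedge x y)) :=
            (LinearEquiv.lTensor (X.ring y') e).toEquiv.nontrivial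
          obtain ⟨m, hm⟩ := Ideal.exists_maximal
            (X.ring y' ⊗[X.ring y] (RSpace.point Ω).sectRing (f.wedge x y))
          let q := Ideal.Quotient.mk m
          let P : Ideal (X.ring y') := RingHom.ker (q.comp Algebra.TensorProduct.includeLeftRingHom)
          haveI : P.IsPrime := RingHom.ker_isPrime _
          let j : Ω →+* (RSpace.point Ω).sectRing (f.wedge x y) :=
            (RSpace.point Ω).resSect x (f.wedge x y) (f.wedge_subset_up x y)
          have hfib : PrimeSpectrum.comap (X.res hy) ⟨P, inferInstance⟩ =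
              PrimeSpectrum.comap (X.res hy1) a.2 := by
            refine PrimeSpectrum.ext (Ideal.ext fun r => ?_)
            show q (X.res hy r ⊗ₜ 1) = 0 ↔ X.res hy1 r ∈ a.2.asIdeal
            rw [show (X.res hy r ⊗ₜ[X.ring y] (1 : (RSpace.point Ω).sectRing (f.wedge x y))) =
                (1 : X.ring y') ⊗ₜ[X.ring y] cy r from
              Algebra.TensorProduct.algebraMap_apply' (R := X.ring y) (A := X.ring y')
                (B := (RSpace.point Ω).sectRing (f.wedge x y)) r,
              show cy r = j (ψ (X.res hy1 r)) from Subtype.ext (funext fun _ => rfl),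
              ← Ideal.algebraMap_residueField_eq_zero (I := a.2.asIdeal)]
            have hinj := ((q.comp ((Algebra.TensorProduct.includeRight (R := X.ring y)
              (A := X.ring y') (B := (RSpace.point Ω).sectRing (f.wedge x y))).toRingHom.comp
                j)).comp φ).injective
            exact ⟨fun h => hinj (h.trans (map_zero _).symm), fun h => by
              rw [hψ, RingHom.comp_apply, h]; simp⟩
          exact hy' (ha ⟨y', P, inferInstance⟩
            (pairs_meet hX hff hy1 hy a.2 ⟨P, inferInstance⟩ hfib.symm))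
        · haveI := H_point_subsingleton (Coef.ofHom f y (f.wedge x y) (f.wedge_subset_pre x y)) 0
            (Or.inr (hsub y hy1))
          exact isBCAlong_of_subsingleton _ _
    · haveI := fun {R : Type u} [CommRing R] (U : Set (RSpace.point Ω).pt)
        (c : Coef (RSpace.point Ω) U R) => H_point_subsingleton c n (Or.inl hn)
      exact isBCAlong_of_subsingleton _ _

theorem geomPt_ext {X : RSpace.{u}} (ξ η : GeomPt X Ω)
    (h : (⟨ξ.base, ξ.toField⟩ : Σ x : X.pt, (X.ring x →+* Ω)) = ⟨η.base, η.toField⟩) : ξ = η := by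
  obtain ⟨⟨fn, m1, app1, c1⟩, s1⟩ := ξ
  obtain ⟨⟨gn, m2, app2, c2⟩, s2⟩ := η
  obtain ⟨h1, h2⟩ := Sigma.mk.inj_iff.mp h
  change fn PUnit.unit = gn PUnit.unit at h1
  obtain rfl : fn = gn := funext fun q => h1
  obtain rfl : app1 = app2 := funext fun q => eq_of_heq h2
  rfl

theorem existsUnique_of_maximal_pair {X : RSpace.{u}} (hX : X.IsSchematic) (hff : MeetFF X)
    (a : X.Pair) (ha : ∀ b : X.Pair, X.PairRel a b → b.1 ≤ a.1) (φ : a.κ →+* Ω) :
    ∃! ξ : GeomPt X Ω, (⟨ξ.base, ξ.toField⟩ : Σ x : X.pt, (X.ring x →+* Ω)) =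
      ⟨a.1, φ.comp (algebraMap (X.ring a.1) a.κ)⟩ :=
  ⟨⟨_, pointHom_isSchematic hX hff a ha φ⟩, rfl, fun η hη => geomPt_ext η _ hη⟩

end SchFinLib
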