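import Groth.Agent.SchFinLib.FibFunctor
import Mathlib.CategoryTheory.Limits.FintypeCat
import Mathlib.CategoryTheory.Limits.Shapes.Opposites.Products

/-!
# Exactness of the fibre functor on étale covers
-/

set_option autoImplicit false
set_option linter.style.haveILetI false

open CategoryTheory CategoryTheory.Limits Opposite

namespace SchFinLib

open SchFin

universe u v w

/-- Opposite of a product is a coproduct. -/
noncomputable def opCofanIsColimit {C : Type v} [Category.{w} C] {P A B : C} (f : P ⟶ A) (g : P ⟶ B)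
    (h : IsLimit (BinaryFan.mk f g)) : IsColimit (BinaryCofan.mk f.op g.op) :=
  BinaryCofan.IsColimit.mk _
    (fun a b => (BinaryFan.IsLimit.lift' h a.unop b.unop).1.op)
    (fun a b => Quiver.Hom.unop_inj (BinaryFan.IsLimit.lift' h a.unop b.unop).2.1)
    (fun a b => Quiver.Hom.unop_inj (BinaryFan.IsLimit.lift' h a.unop b.unop).2.2)
    (fun a b m h1 h2 => Quiver.Hom.unop_inj (BinaryFan.IsLimit.hom_ext h
      ((congrArg Quiver.Hom.unop h1).trans (BinaryFan.IsLimit.lift' h a.unop b.unop).2.1.symm)
      ((congrArg Quiver.Hom.unop h2).trans (BinaryFan.IsLimit.lift' h a.unop b.unop).2.2.symm)))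

/-- A bijection from a disjoint union gives a coproduct of finite sets. -/
noncomputable def fintypeCofan {A B P : FintypeCat.{u}} (i : A ⟶ P) (j : B ⟶ P)
    (h : Function.Bijective (Sum.elim i j)) : IsColimit (BinaryCofan.mk i j) :=
  BinaryCofan.IsColimit.mk _
    (fun a b => FintypeCat.homMk fun p => Sum.elim a b ((Equiv.ofBijective _ h).symm p))
    (fun a b => FintypeCat.hom_ext _ _ fun x => by
      show Sum.elim a b ((Equiv.ofBijective _ h).symm (i x)) = a x
      rw [show i x = Equiv.ofBijective _ h (Sum.inl x) from rfl, Equiv.symm_apply_apply]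
      rfl)
    (fun a b => FintypeCat.hom_ext _ _ fun x => by
      show Sum.elim a b ((Equiv.ofBijective _ h).symm (j x)) = b x
      rw [show j x = Equiv.ofBijective _ h (Sum.inr x) from rfl, Equiv.symm_apply_apply]
      rfl)
    (fun a b m ha hb => FintypeCat.hom_ext _ _ fun p => by
      obtain ⟨x, rfl⟩ := h.2 p
      show m (Sum.elim i j x) = Sum.elim a b ((Equiv.ofBijective _ h).symm (Sum.elim i j x))
      rw [show Sum.elim i j x = Equiv.ofBijective _ h x from rfl, Equiv.symm_apply_apply]
      rcases x with x | x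
      · exact ConcreteCategory.congr_hom ha x
      · exact ConcreteCategory.congr_hom hb x)

/-- A square of finite sets with unique fillers is cartesian. -/
noncomputable def fintypePullback {A B C P : FintypeCat.{u}} {f : B ⟶ A} {g : C ⟶ A} (l : P ⟶ B)
    (r : P ⟶ C) (w : l ≫ f = r ≫ g) (h : ∀ b c, f b = g c → ∃! x, l x = b ∧ r x = c) :
    IsLimit (PullbackCone.mk l r w) :=
  PullbackCone.IsLimit.mk w
    (fun s => FintypeCat.homMk fun x =>
      (h (s.fst x) (s.snd x) (ConcreteCategory.congr_hom s.condition x)).choose)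
    (fun s => FintypeCat.hom_ext _ _ fun x =>
      (h (s.fst x) (s.snd x) (ConcreteCategory.congr_hom s.condition x)).choose_spec.1.1)
    (fun s => FintypeCat.hom_ext _ _ fun x =>
      (h (s.fst x) (s.snd x) (ConcreteCategory.congr_hom s.condition x)).choose_spec.1.2)
    (fun s m hl hr => FintypeCat.hom_ext _ _ fun x =>
      (h (s.fst x) (s.snd x) (ConcreteCategory.congr_hom s.condition x)).choose_spec.2 _
        ⟨ConcreteCategory.congr_hom hl x, ConcreteCategory.congr_hom hr x⟩)

variable {X : RSpace.{u}} {Ω : Type u} [Field Ω] [IsAlgClosed Ω] (ξ : GeomPt X Ω)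

theorem preservesTerminal : PreservesLimitsOfShape (Discrete PEmpty.{1}) ξ.fibFunctor := by
  let S : FEt X := ⟨Alg.str X, str_isEtCover⟩
  let i : ∀ A : FEt X, S ⟶ A := fun A => ObjectProperty.homMk
    ⟨fun p => Algebra.ofId (X.ring p) (A.obj.carrier p), fun {p q} h b => A.obj.res_algebraMap h b⟩
  have hS : IsInitial S := IsInitial.ofUniqueHom (X := S) i fun A m =>
    fet_hom_ext _ _ fun p a => (app m p).commutes a
  obtain ⟨x₀, hx₀⟩ := fib_str ξ
  have hT : IsTerminal (ξ.fibFunctor.obj (op S)) :=
    IsTerminal.ofUniqueHom (fun A => FintypeCat.homMk fun _ => x₀) fun A m =>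
      FintypeCat.hom_ext _ _ fun a => hx₀ _
  haveI : PreservesLimit (Functor.empty.{0} (FEt X)ᵒᵖ) ξ.fibFunctor :=
    preservesLimit_of_preserves_limit_cone (terminalOpOfInitial hS)
      ((isLimitMapConeEmptyConeEquiv ξ.fibFunctor _).symm hT)
  exact preservesLimitsOfShape_pempty_of_preservesTerminal _

theorem preservesPullbacks : PreservesLimitsOfShape WalkingCospan ξ.fibFunctor := by
  haveI : ∀ {A B C : FEt X} (f : A ⟶ B) (g : A ⟶ C),
      PreservesLimit (cospan f.op g.op) ξ.fibFunctor := by
    intro A B C f g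
    let P : FEt X := ⟨pushAlg f.hom g.hom, pushAlg_isEtCover f g⟩
    let il : B ⟶ P := ObjectProperty.homMk (pushInlHom f.hom g.hom)
    let ir : C ⟶ P := ObjectProperty.homMk (pushInrHom f.hom g.hom)
    have hc : f ≫ il = g ≫ ir := fet_hom_ext _ _ fun p a => pushIn_comm f.hom g.hom p a
    obtain ⟨hcol⟩ : Nonempty (IsColimit (PushoutCocone.mk il ir hc)) := ⟨pushIsColimit f g⟩
    have hc' : il.op ≫ f.op = ir.op ≫ g.op := by rw [← op_comp, ← op_comp, hc]
    have hlim : IsLimit (PullbackCone.mk il.op ir.op hc') :=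
      PullbackCone.IsLimit.mk hc'
        (fun s => (PushoutCocone.IsColimit.desc hcol s.fst.unop s.snd.unop
          (congrArg Quiver.Hom.unop s.condition)).op)
        (fun s => Quiver.Hom.unop_inj (PushoutCocone.IsColimit.inl_desc hcol _ _ _))
        (fun s => Quiver.Hom.unop_inj (PushoutCocone.IsColimit.inr_desc hcol _ _ _))
        (fun s m h1 h2 => Quiver.Hom.unop_inj (PushoutCocone.IsColimit.hom_ext hcol
          ((congrArg Quiver.Hom.unop h1).trans (PushoutCocone.IsColimit.inl_desc hcol _ _ _).symm)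
          ((congrArg Quiver.Hom.unop h2).trans (PushoutCocone.IsColimit.inr_desc hcol _ _ _).symm)))
    refine preservesLimit_of_preserves_limit_cone hlim
      ((isLimitMapConePullbackConeEquiv ξ.fibFunctor hc').symm ?_)
    exact fintypePullback _ _ _ fun b c h =>
      fib_push ξ f g P rfl il ir HEq.rfl HEq.rfl b c h
  refine ⟨fun {K} => ?_⟩
  haveI : PreservesLimit (cospan (K.map WalkingCospan.Hom.inl) (K.map WalkingCospan.Hom.inr))
      ξ.fibFunctor := this (K.map WalkingCospan.Hom.inl).unop (K.map WalkingCospan.Hom.inr).unop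
  exact preservesLimit_of_iso_diagram _ (diagramIsoCospan K).symm

theorem preservesBinaryCoproducts (A B : FEt X) :
    PreservesColimit (pair (op A) (op B)) ξ.fibFunctor :=
  preservesColimit_of_preserves_colimit_cocone
    (opCofanIsColimit (prodFst A B) (prodSnd A B) (fanIsLimit _ _ fun p => Function.bijective_id))
    ((isColimitMapCoconeBinaryCofanEquiv ξ.fibFunctor _ _).symm
      (fintypeCofan _ _ (fib_fan ξ (prodFst A B) (prodSnd A B) Function.bijective_id)))

theorem preservesFiniteCoproducts : PreservesFiniteCoproducts ξ.fibFunctor := by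
  haveI : HasTerminal (FEt X) := hasTerminal
  haveI : HasBinaryProducts (FEt X) := hasBinaryProducts
  haveI : HasFiniteProducts (FEt X) := hasFiniteProducts_of_has_binary_and_terminal
  haveI : HasFiniteCoproducts (FEt X)ᵒᵖ := inferInstance
  let Z : FEt X := ⟨zeroAlg X, zeroAlg_isEtCover⟩
  haveI : ∀ p, Subsingleton (Z.obj.carrier p) := zeroAlg_subsingleton
  let t : ∀ A : FEt X, A ⟶ Z := fun A => ObjectProperty.homMk
    ⟨fun p => AlgHom.pi fun i : PEmpty.{u + 1} => i.elim,
      fun _ _ => Subsingleton.elim _ _⟩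
  have hZ : IsTerminal Z := IsTerminal.ofUniqueHom (Y := Z) t fun A m => fet_hom_ext _ _ fun p a =>
    Subsingleton.elim _ _
  haveI : IsEmpty (ξ.fibFunctor.obj (op Z)) := ⟨fun x => pts_zero ξ ((fibEquiv ξ Z).symm x)⟩
  have hI : IsInitial (ξ.fibFunctor.obj (op Z)) :=
    IsInitial.ofUniqueHom (fun A => FintypeCat.homMk (fun x => isEmptyElim x)) fun A m =>
      FintypeCat.hom_ext _ _ fun x => isEmptyElim x
  haveI : PreservesColimit (Functor.empty.{0} (FEt X)ᵒᵖ) ξ.fibFunctor :=
    preservesColimit_of_preserves_colimit_cocone (initialOpOfTerminal hZ)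
      ((isColimitMapCoconeEmptyCoconeEquiv ξ.fibFunctor _).symm hI)
  haveI := preservesColimitsOfShape_pempty_of_preservesInitial ξ.fibFunctor
  haveI : PreservesColimitsOfShape (Discrete WalkingPair) ξ.fibFunctor := ⟨fun {K} => by
    haveI : PreservesColimit (pair (K.obj ⟨WalkingPair.left⟩) (K.obj ⟨WalkingPair.right⟩))
        ξ.fibFunctor :=
      preservesBinaryCoproducts ξ (K.obj ⟨WalkingPair.left⟩).unop (K.obj ⟨WalkingPair.right⟩).unop
    exact preservesColimit_of_iso_diagram _ (diagramIsoPair K).symm⟩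
  exact ⟨fun n => PreservesFiniteCoproducts.of_preserves_binary_and_initial ξ.fibFunctor (Fin n)⟩

theorem preservesEpimorphisms (hX : X.IsFinSp) : ξ.fibFunctor.PreservesEpimorphisms where
  preserves {A B} f hf := by
    haveI : Mono f.unop := unop_mono_of_epi f
    have hs : Function.Surjective (ξ.fibMap f.unop.hom) :=
      fibMap_surjective_of_injective ξ f.unop (injective_of_mono hX f.unop ξ.base)
    exact ConcreteCategory.epi_of_surjective (ξ.fibFunctor.map f) hs

end SchFinLib
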