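import Groth.Agent.SchFinLib.Invariants
import Groth.Agent.SchFinLib.FibPreserves
import Mathlib.CategoryTheory.SingleObj
import Mathlib.CategoryTheory.Limits.Preserves.Opposites

/-!
# Quotients by finite groups, the Galois category of étale covers
-/

set_option autoImplicit false
set_option linter.style.haveILetI false

open TensorProduct CategoryTheory CategoryTheory.Limits Opposite

namespace SchFinLib

open SchFin

universe u

variable {X : RSpace.{u}}

/-- Local triviality of all étale covers. -/
def LocTriv (X : RSpace.{u}) : Prop :=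
  ∀ A : FEt X, ∃ (B : Alg X) (n : ℕ), B.IsCovering ∧ ∀ p : X.pt,
    Nonempty (TensorProduct (X.ring p) (B.carrier p) (A.obj.carrier p) ≃ₐ[B.carrier p]
      (Fin n → B.carrier p))

variable {G : Type u}

/-- The algebra of invariants of a family of endomorphisms. -/
def invAlg (A : Alg X) (s : G → (A ⟶ A)) : Alg X where
  carrier p := invSub fun g => (s g).app p
  res {p q} h :=
    ((A.res h).comp (invSub fun g => (s g).app p).val.toRingHom).codRestrict
      (invSub fun g => (s g).app q) fun a g => by
        show (s g).app q (A.res h a) = A.res h a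
        rw [← (s g).compat h, a.2 g]
  res_algebraMap h a := Subtype.ext (A.res_algebraMap h a)
  res_self p b := Subtype.ext (A.res_self p b)
  res_comp h h' b := Subtype.ext (A.res_comp h h' b)

/-- The inclusion of the invariants. -/
def invIncl (A : Alg X) (s : G → (A ⟶ A)) : invAlg A s ⟶ A :=
  ⟨fun p => (invSub fun g => (s g).app p).val, fun _ _ => rfl⟩

theorem bijective_inv (R S : Type u) [CommRing R] [CommRing S] [Algebra R S] [Module.Flat R S]
    {A A' C' : Type u} [CommRing A] [CommRing A'] [CommRing C'] [Algebra R A] [Algebra S A']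
    [Algebra S C'] [Finite G] (σ : G → (A →ₐ[R] A)) (σ' : G → (A' →ₐ[S] A'))
    (gA : S ⊗[R] A →ₐ[S] A') (hgA : Function.Bijective gA)
    (hσ : ∀ g a, σ' g (gA (1 ⊗ₜ a)) = gA (1 ⊗ₜ σ g a))
    (ι' : C' →ₐ[S] A') (hι' : Function.Injective ι')
    (hι'r : ∀ a, (∃ c, ι' c = a) ↔ ∀ g, σ' g a = a) (gC : S ⊗[R] invSub σ →ₐ[S] C')
    (hgC : ∀ s c, ι' (gC (s ⊗ₜ c)) = gA (s ⊗ₜ (c : A))) : Function.Bijective gC := by
  obtain ⟨hinj, hsurj⟩ := lTensor_invSub σ S
  have key : ∀ z, ι' (gC z) = gA (Algebra.TensorProduct.map (AlgHom.id S S) (invSub σ).val z) := by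
    intro z
    induction z using TensorProduct.induction_on with
    | zero => simp
    | tmul s c => simpa using hgC s c
    | add x y hx hy => simp only [map_add, hx, hy]
  have hσ' : ∀ g z, σ' g (gA z) = gA (Algebra.TensorProduct.map (AlgHom.id S S) (σ g) z) := by
    intro g z
    induction z using TensorProduct.induction_on with
    | zero => simp
    | tmul s a =>
        have hs : (s ⊗ₜ[R] a) = s • ((1 : S) ⊗ₜ[R] a) := by simp [TensorProduct.smul_tmul']
        rw [hs, map_smul, map_smul, hσ, ← map_smul]
        simp [TensorProduct.smul_tmul']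
    | add x y hx hy => simp only [map_add, hx, hy]
  refine ⟨fun a b hab => hinj (hgA.1 (by rw [← key, ← key, hab])), fun c => ?_⟩
  obtain ⟨z, hz⟩ := hgA.2 (ι' c)
  obtain ⟨w, hw⟩ := hsurj z fun g => hgA.1 (by
    rw [← hσ', hz]
    exact (hι'r (ι' c)).mp ⟨c, rfl⟩ g)
  exact ⟨w, hι' (by rw [key, hw, hz])⟩

theorem invAlg_isQcoh [Finite G] (hX : X.IsFinSp) {A : Alg X} (hA : A.IsQcoh) (s : G → (A ⟶ A)) :
    (invAlg A s).IsQcoh := by
  refine (qcoh_iff_alg _).mpr fun {p q} h => ?_
  letI := resAlgebra X h
  haveI : Module.Flat (X.ring p) (X.ring q) := hX.2 p q h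
  refine bijective_inv (X.ring p) (X.ring q) (fun g => (s g).app p) (fun g => (s g).app q)
    (algBC A h) ((qcoh_iff_alg A).mp hA h) (fun g a => ?_) (invSub fun g => (s g).app q).val
    Subtype.val_injective (fun a => ⟨fun ⟨c, hc⟩ g => hc ▸ c.2 g, fun ha => ⟨⟨a, ha⟩, rfl⟩⟩) _
    (fun t c => ?_)
  · rw [algBC_tmul, algBC_tmul, map_one, one_mul, one_mul]
    exact ((s g).compat h a).symm
  · rw [algBC_tmul]
    exact congrArg Subtype.val (algBC_tmul (invAlg A s) h t c)

theorem invAlg_isEtCover [Finite G] (hX : X.IsFinSp) (hlt : LocTriv X) (A : FEt X)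
    (s : G → (A.obj ⟶ A.obj)) : (invAlg A.obj s).IsEtCover := by
  refine ⟨invAlg_isQcoh hX A.property.1 s, fun p => ?_⟩
  obtain ⟨B, n, hB, he⟩ := hlt A
  obtain ⟨e⟩ := he p
  haveI := (hB.2 p).2
  haveI := hX.1 p
  exact etale_invSub (R := X.ring p) (fun g => (s g).app p) e

section Limit

variable [Group G] [Finite G] (hX : X.IsFinSp) (hlt : LocTriv X) (K : SingleObj G ⥤ FEt X)

/-- The acting endomorphisms of a diagram on one object. -/
def actions (g : G) : (K.obj (SingleObj.star G)).obj ⟶ (K.obj (SingleObj.star G)).obj :=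
  (K.map (X := SingleObj.star G) (Y := SingleObj.star G) g).hom

/-- The object of invariants. -/
def invObj : FEt X :=
  ⟨invAlg (K.obj (SingleObj.star G)).obj (actions K), invAlg_isEtCover hX hlt _ _⟩

/-- The inclusion of the object of invariants. -/
def invObjIncl : invObj hX hlt K ⟶ K.obj (SingleObj.star G) :=
  ObjectProperty.homMk (invIncl (K.obj (SingleObj.star G)).obj (actions K))

/-- The cone of invariants. -/
def invCone : Cone K where
  pt := invObj hX hlt K
  π :=
    { app := fun _ => invObjIncl hX hlt K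
      naturality := fun i j g => by
        obtain rfl : i = SingleObj.star G := Subsingleton.elim (α := Quiver.SingleObj G) _ _
        obtain rfl : j = SingleObj.star G := Subsingleton.elim (α := Quiver.SingleObj G) _ _
        exact fet_hom_ext _ _ fun p a => (a.2 g).symm }

theorem cone_invariant (s : Cone K) (g : G) (p : X.pt) (t : s.pt.obj.carrier p) :
    (actions K g).app p (app (s.π.app (SingleObj.star G)) p t) =
      app (s.π.app (SingleObj.star G)) p t :=
  DFunLike.congr_fun (congrArg (fun k => app k p)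
    (s.w (j := SingleObj.star G) (j' := SingleObj.star G) g)) t

/-- The invariants are the limit. -/
def invIsLimit : IsLimit (invCone hX hlt K) where
  lift s := ObjectProperty.homMk
    ⟨fun p => (app (s.π.app (SingleObj.star G)) p).codRestrict
        (invSub fun g => (actions K g).app p) fun t g => cone_invariant K s g p t,
      fun {p q} h t => Subtype.ext ((s.π.app (SingleObj.star G)).hom.compat h t)⟩
  fac s j := by
    obtain rfl : j = SingleObj.star G := Subsingleton.elim (α := Quiver.SingleObj G) _ _
    exact fet_hom_ext _ _ fun p t => rfl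
  uniq s m hm := fet_hom_ext _ _ fun p t => Subtype.ext
    (DFunLike.congr_fun (congrArg (fun k => app k p) (hm (SingleObj.star G))) t)

theorem hasLimitsOfShape_singleObj (hX : X.IsFinSp) (hlt : LocTriv X) :
    HasLimitsOfShape (SingleObj G) (FEt X) :=
  ⟨fun K => ⟨⟨⟨invCone hX hlt K, invIsLimit hX hlt K⟩⟩⟩⟩

end Limit

section Fibre

variable {Ω : Type u} [Field Ω] [IsAlgClosed Ω] (ξ : GeomPt X Ω)

theorem pts_quotient [Finite G] (hlt : LocTriv X) (A : FEt X) (s : G → (A.obj ⟶ A.obj))
    (φ ψ : Pts ξ A.obj)
    (h : ∀ a : A.obj.carrier ξ.base, a ∈ invSub (fun g => (s g).app ξ.base) → φ.1 a = ψ.1 a) :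
    Relation.EqvGen (fun a b => ∃ g, ptsMap ξ (s g) a = b) φ ψ := by
  letI : Algebra (X.ring ξ.base) Ω := ξ.toField.toAlgebra
  obtain ⟨B, n, hB, he⟩ := hlt A
  obtain ⟨e⟩ := he ξ.base
  haveI := (hB.2 ξ.base).1
  haveI := (hB.2 ξ.base).2
  let toA : Pts ξ A.obj → (A.obj.carrier ξ.base →ₐ[X.ring ξ.base] Ω) :=
    fun φ => { φ.1 with commutes' := φ.2 }
  let ofA : (A.obj.carrier ξ.base →ₐ[X.ring ξ.base] Ω) → Pts ξ A.obj :=
    fun a => ⟨a.toRingHom, a.commutes⟩
  have hrel := eqvGen_of_restrict_eq (fun g => (s g).app ξ.base) e (toA φ) (toA ψ) h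
  have : ∀ a b : A.obj.carrier ξ.base →ₐ[X.ring ξ.base] Ω,
      Relation.EqvGen (fun a b => ∃ g, a.comp ((s g).app ξ.base) = b) a b →
      Relation.EqvGen (fun a b => ∃ g, ptsMap ξ (s g) a = b) (ofA a) (ofA b) := by
    intro a b hab
    induction hab with
    | rel x y hxy =>
        obtain ⟨g, rfl⟩ := hxy
        exact .rel _ _ ⟨g, Subtype.ext rfl⟩
    | refl x => exact .refl _
    | symm x y _ ih => exact .symm _ _ ih
    | trans x y z _ _ ih1 ih2 => exact .trans _ _ _ ih1 ih2
  exact this _ _ hrel

theorem fib_quotient [Finite G] (hlt : LocTriv X) (A : FEt X) (s : G → (A.obj ⟶ A.obj))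
    (hC : (invAlg A.obj s).IsEtCover) :
    Function.Surjective (ξ.fibMap (invIncl A.obj s)) ∧
      ∀ x y, ξ.fibMap (invIncl A.obj s) x = ξ.fibMap (invIncl A.obj s) y →
      Relation.EqvGen (fun a b => ∃ g, ξ.fibMap (s g) a = b) x y := by
  refine ⟨fibMap_surjective_of_injective ξ
    (ObjectProperty.homMk (invIncl A.obj s) : (⟨invAlg A.obj s, hC⟩ : FEt X) ⟶ A)
    Subtype.val_injective, fun x y hxy => ?_⟩
  obtain ⟨φ, rfl⟩ := (fibEquiv ξ A).surjective x
  obtain ⟨ψ, rfl⟩ := (fibEquiv ξ A).surjective y
  let C : FEt X := ⟨invAlg A.obj s, hC⟩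
  let i : C ⟶ A := ObjectProperty.homMk (invIncl A.obj s)
  have hxy' : ptsMap ξ i.hom φ = ptsMap ξ i.hom ψ :=
    (fibEquiv ξ C).injective (((fibEquiv_natural ξ i φ).symm.trans hxy).trans (fibEquiv_natural ξ i ψ))
  have := pts_quotient ξ hlt A s φ ψ fun a ha =>
    RingHom.congr_fun (congrArg Subtype.val hxy') ⟨a, ha⟩
  clear hxy hxy'
  induction this with
  | rel a b hab =>
      obtain ⟨g, rfl⟩ := hab
      exact .rel _ _ ⟨g, fibEquiv_natural ξ (ObjectProperty.homMk (s g) : A ⟶ A) a⟩
  | refl a => exact .refl _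
  | symm a b _ ih => exact .symm _ _ ih
  | trans a b c _ _ ih1 ih2 => exact .trans _ _ _ ih1 ih2

/-- A surjection of finite sets whose fibres are the orbits is a quotient. -/
noncomputable def fintypeQuotient [Group G] (D : SingleObj G ⥤ FintypeCat.{u}) (c : Cocone D)
    (hs : Function.Surjective (c.ι.app (SingleObj.star G)))
    (hk : ∀ x y, c.ι.app (SingleObj.star G) x = c.ι.app (SingleObj.star G) y →
      Relation.EqvGen (fun a b => ∃ g : G,
        D.map (X := SingleObj.star G) (Y := SingleObj.star G) g a = b) x y) :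
    IsColimit c where
  desc d := FintypeCat.homMk fun q => d.ι.app (SingleObj.star G) (hs q).choose
  fac d j := by
    obtain rfl : j = SingleObj.star G := Subsingleton.elim (α := Quiver.SingleObj G) _ _
    refine FintypeCat.hom_ext _ _ fun x => ?_
    show d.ι.app (SingleObj.star G) (hs (c.ι.app (SingleObj.star G) x)).choose =
      d.ι.app (SingleObj.star G) x
    have key : ∀ a b, Relation.EqvGen (fun a b => ∃ g : G,
        D.map (X := SingleObj.star G) (Y := SingleObj.star G) g a = b) a b →
        d.ι.app (SingleObj.star G) a = d.ι.app (SingleObj.star G) b := by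
      intro a b hab
      induction hab with
      | rel a b h =>
          obtain ⟨g, rfl⟩ := h
          exact (ConcreteCategory.congr_hom
            (d.w (j := SingleObj.star G) (j' := SingleObj.star G) g) a).symm
      | refl a => rfl
      | symm a b _ ih => exact ih.symm
      | trans a b c _ _ ih1 ih2 => exact ih1.trans ih2
    exact key _ _ (hk _ _ (hs (c.ι.app (SingleObj.star G) x)).choose_spec)
  uniq d m hm := FintypeCat.hom_ext _ _ fun q => by
    refine Eq.trans ?_ (ConcreteCategory.congr_hom (hm (SingleObj.star G)) (hs q).choose)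
    exact congrArg m (hs q).choose_spec.symm

/-- The functor on `SingleObj G` seen in the original category, with the group reversed. -/
def unopDiagram [Group G] (K : SingleObj G ⥤ (FEt X)ᵒᵖ) : SingleObj G ⥤ FEt X where
  obj _ := (K.obj (SingleObj.star G)).unop
  map {_ _} g := (K.map (X := SingleObj.star G) (Y := SingleObj.star G) g⁻¹).unop
  map_id _ := by
    rw [SingleObj.id_as_one, inv_one, ← SingleObj.id_as_one, K.map_id]
    rfl
  map_comp {_ _ _} g h := by
    rw [SingleObj.comp_as_mul, mul_inv_rev, ← SingleObj.comp_as_mul, K.map_comp]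
    rfl

theorem hasColimitsOfShape_op [Group G] [Finite G] (hX : X.IsFinSp) (hlt : LocTriv X) :
    HasColimitsOfShape (SingleObj G) (FEt X)ᵒᵖ := by
  haveI : ∀ (H : Type u) [Group H] [Finite H], HasLimitsOfShape (SingleObj H) (FEt X) :=
    fun H _ _ => hasLimitsOfShape_singleObj hX hlt
  refine ⟨fun K => ?_⟩
  let c := invCone hX hlt (unopDiagram K)
  have hc := invIsLimit hX hlt (unopDiagram K)
  let cc : Cocone K :=
    { pt := op c.pt
      ι :=
        { app := fun _ => (c.π.app (SingleObj.star G)).op
          naturality := fun i j g => by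
            obtain rfl : i = SingleObj.star G := Subsingleton.elim (α := Quiver.SingleObj G) _ _
            obtain rfl : j = SingleObj.star G := Subsingleton.elim (α := Quiver.SingleObj G) _ _
            apply Quiver.Hom.unop_inj
            have := c.w (j := SingleObj.star G) (j' := SingleObj.star G) (g⁻¹ : G)
            simp only [unopDiagram, inv_inv] at this
            exact this.trans (Category.comp_id _).symm } }
  let lc : ∀ s : Cocone K, Cone (unopDiagram K) := fun s =>
    { pt := s.pt.unop
      π :=
        { app := fun _ => (s.ι.app (SingleObj.star G)).unop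
          naturality := fun i j g => by
            refine (Category.id_comp _).trans ?_
            exact (congrArg Quiver.Hom.unop
              (s.w (j := SingleObj.star G) (j' := SingleObj.star G) (g⁻¹ : G))).symm } }
  exact ⟨⟨⟨cc,
    { desc := fun s => (hc.lift (lc s)).op
      fac := fun s j => by
        obtain rfl : j = SingleObj.star G := Subsingleton.elim (α := Quiver.SingleObj G) _ _
        exact Quiver.Hom.unop_inj (hc.fac (lc s) (SingleObj.star G))
      uniq := fun s m hm => Quiver.Hom.unop_inj (hc.uniq (lc s) m.unop fun j => by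
        obtain rfl : j = SingleObj.star G := Subsingleton.elim (α := Quiver.SingleObj G) _ _
        exact congrArg Quiver.Hom.unop (hm (SingleObj.star G))) }⟩⟩⟩

theorem preservesQuotients [Group G] [Finite G] (hX : X.IsFinSp) (hlt : LocTriv X) :
    PreservesColimitsOfShape (SingleObj G) ξ.fibFunctor := by
  refine ⟨fun {K} => ⟨fun {c} hc => ⟨?_⟩⟩⟩
  -- the colimit is the object of invariants
  let A : FEt X := (K.obj (SingleObj.star G)).unop
  let s : G → (A.obj ⟶ A.obj) :=
    fun g => (K.map (X := SingleObj.star G) (Y := SingleObj.star G) g).unop.hom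
  let C : FEt X := ⟨invAlg A.obj s, invAlg_isEtCover hX hlt A s⟩
  let i : C ⟶ A := ObjectProperty.homMk (invIncl A.obj s)
  let cc : Cocone K :=
    { pt := op C
      ι :=
        { app := fun _ => i.op
          naturality := fun j₁ j₂ g => by
            obtain rfl : j₁ = SingleObj.star G := Subsingleton.elim (α := Quiver.SingleObj G) _ _
            obtain rfl : j₂ = SingleObj.star G := Subsingleton.elim (α := Quiver.SingleObj G) _ _
            apply Quiver.Hom.unop_inj
            exact fet_hom_ext _ _ fun p a => a.2 g } }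
  have hcc : IsColimit cc :=
    { desc := fun d => Quiver.Hom.op (ObjectProperty.homMk
        ⟨fun p => (app (d.ι.app (SingleObj.star G)).unop p).codRestrict
            (invSub fun g => (s g).app p) fun t g => DFunLike.congr_fun (congrArg (fun k => app k p)
              (congrArg Quiver.Hom.unop
                (d.w (j := SingleObj.star G) (j' := SingleObj.star G) g))) t,
          fun {p q} h t => Subtype.ext ((d.ι.app (SingleObj.star G)).unop.hom.compat h t)⟩)
      fac := fun d j => by
        obtain rfl : j = SingleObj.star G := Subsingleton.elim (α := Quiver.SingleObj G) _ _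
        exact Quiver.Hom.unop_inj (fet_hom_ext _ _ fun p t => rfl)
      uniq := fun d m hm => Quiver.Hom.unop_inj (fet_hom_ext _ _ fun p t => Subtype.ext
        (DFunLike.congr_fun (congrArg (fun k => app k p)
          (congrArg Quiver.Hom.unop (hm (SingleObj.star G)))) t)) }
  obtain ⟨hs, hk⟩ := fib_quotient ξ hlt A s C.property
  exact (fintypeQuotient (K ⋙ ξ.fibFunctor) (ξ.fibFunctor.mapCocone cc) hs hk).ofIsoColimit
    ((Cocone.functoriality K ξ.fibFunctor).mapIso (hcc.uniqueUpToIso hc))

theorem monoInducesIsoOnDirectSummand (hX : X.IsFinSp)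
    (hepi : ∀ (A B : FEt X) (f : A ⟶ B), Epi f → ∀ p, Function.Surjective (app f p))
    {Y Z : (FEt X)ᵒᵖ} (i : Y ⟶ Z) [Mono i] :
    ∃ (W : (FEt X)ᵒᵖ) (u : W ⟶ Z), Nonempty (IsColimit (BinaryCofan.mk i u)) := by
  haveI : Epi i.unop := unop_epi_of_mono i
  obtain ⟨D, π, ⟨h⟩⟩ := exists_complement hX i.unop (hepi _ _ i.unop inferInstance)
  exact ⟨op D, π.op, ⟨opCofanIsColimit i.unop π h⟩⟩

theorem galois (hX : X.IsFinSp) (hwc : X.IsWellConnected) (hlt : LocTriv X)
    (hepi : ∀ (A B : FEt X) (f : A ⟶ B), Epi f → ∀ p, Function.Surjective (app f p)) :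
    ∃ h : PreGaloisCategory (FEt X)ᵒᵖ,
      @PreGaloisCategory.FiberFunctor (FEt X)ᵒᵖ _ h ξ.fibFunctor := by
  haveI : HasInitial (FEt X) := hasInitial
  haveI : HasPushouts (FEt X) := hasPushouts
  haveI : HasTerminal (FEt X) := hasTerminal
  haveI : HasBinaryProducts (FEt X) := hasBinaryProducts
  haveI : HasFiniteProducts (FEt X) := hasFiniteProducts_of_has_binary_and_terminal
  let hP : PreGaloisCategory (FEt X)ᵒᵖ :=
    { hasTerminal := inferInstance
      hasPullbacks := inferInstance
      hasFiniteCoproducts := inferInstance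
      hasQuotientsByFiniteGroups := fun G _ _ => hasColimitsOfShape_op hX hlt
      monoInducesIsoOnDirectSummand := fun i _ => monoInducesIsoOnDirectSummand hX hepi i }
  exact ⟨hP,
    { preservesTerminalObjects := preservesTerminal ξ
      preservesPullbacks := preservesPullbacks ξ
      preservesFiniteCoproducts := preservesFiniteCoproducts ξ
      preservesEpis := preservesEpimorphisms ξ hX
      preservesQuotientsByFiniteGroups := fun G _ _ => preservesQuotients ξ hX hlt
      reflectsIsos := reflectsIsomorphisms ξ hX hwc }⟩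

end Fibre

end SchFinLib
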