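import Groth.Agent.SchFinLib.Pushout
import Mathlib.RingTheory.Etale.Field
import Mathlib.RingTheory.Flat.Rank
import Mathlib.RingTheory.LocalRing.Module
import Mathlib.FieldTheory.IsAlgClosed.Basic

/-!
# Finite algebras: points with values in an algebraically closed field, ranks
-/

set_option autoImplicit false
set_option linter.style.haveILetI false

open TensorProduct

namespace SchFinLib

open SchFin

universe u

/-- Two points with the same kernel of a finite algebra over an algebraically closed field agree,
and every prime is the kernel of a point. -/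
theorem point_ker_bijective (K T : Type u) [Field K] [IsAlgClosed K] [CommRing T] [Algebra K T]
    [Module.Finite K T] :
    Function.Bijective fun φ : T →ₐ[K] K =>
      (⟨RingHom.ker φ, RingHom.ker_isPrime φ⟩ : PrimeSpectrum T) := by
  refine ⟨fun φ ψ h => AlgHom.ext fun x => ?_, fun P => ?_⟩
  · have hx : x - algebraMap K T (φ x) ∈ RingHom.ker φ := by
      rw [RingHom.mem_ker, map_sub, φ.commutes, Algebra.algebraMap_self, RingHom.id_apply, sub_self]
    rw [show RingHom.ker φ = RingHom.ker ψ from congrArg PrimeSpectrum.asIdeal h, RingHom.mem_ker,
      map_sub, ψ.commutes, Algebra.algebraMap_self, RingHom.id_apply, sub_eq_zero] at hx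
    exact hx.symm
  · haveI : IsArtinianRing T := IsArtinianRing.of_finite K T
    haveI : P.asIdeal.IsMaximal := IsArtinianRing.isMaximal_of_isPrime P.asIdeal
    have hb : Function.Bijective (algebraMap K (T ⧸ P.asIdeal)) :=
      IsAlgClosed.algebraMap_bijective_of_isIntegral
    let e : K ≃ₐ[K] T ⧸ P.asIdeal := AlgEquiv.ofBijective (Algebra.ofId K _) hb
    refine ⟨e.symm.toAlgHom.comp (Ideal.Quotient.mkₐ K P.asIdeal), PrimeSpectrum.ext ?_⟩
    refine Ideal.ext fun x => ?_
    rw [RingHom.mem_ker]
    show e.symm (Ideal.Quotient.mk _ x) = 0 ↔ _
    rw [map_eq_zero_iff _ e.symm.injective, Ideal.Quotient.eq_zero_iff_mem]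

/-- A nontrivial finite algebra over an algebraically closed field has a point. -/
theorem exists_point (K T : Type u) [Field K] [IsAlgClosed K] [CommRing T] [Algebra K T]
    [Module.Finite K T] [Nontrivial T] : Nonempty (T →ₐ[K] K) := by
  obtain ⟨φ, -⟩ := (point_ker_bijective K T).2 (Classical.arbitrary (PrimeSpectrum T))
  exact ⟨φ⟩

/-- For an étale algebra over an algebraically closed field the dimension is the number of
primes. -/
theorem finrank_eq_card (K T : Type u) [Field K] [IsAlgClosed K] [CommRing T] [Algebra K T]
    [Module.Finite K T] [Algebra.Etale K T] :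
    Module.finrank K T = Nat.card (PrimeSpectrum T) := by
  haveI : IsArtinianRing T := IsArtinianRing.of_finite K T
  haveI := Fintype.ofFinite (PrimeSpectrum T)
  rw [(Algebra.FormallyEtale.equivPiOfIsSepClosed K T).toLinearEquiv.finrank_eq,
    Module.finrank_pi, Nat.card_eq_fintype_card]

/-- A finite injective flat algebra is faithfully flat. -/
theorem ff_of_injective (A B : Type u) [CommRing A] [CommRing B] [Algebra A B] [Module.Finite A B]
    [Module.Flat A B] (h : Function.Injective (algebraMap A B)) : Module.FaithfullyFlat A B :=
  Module.FaithfullyFlat.of_comap_surjective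
    (PrimeSpectrum.comap_surjective_iff_injective_of_finite.mpr h)

/-- An injective map of finite étale algebras of the same rank is bijective. -/
theorem bijective_of_injective_rank {R A B : Type u} [CommRing R] [IsNoetherianRing R] [CommRing A]
    [CommRing B] [Algebra R A] [Algebra R B] [Module.Finite R A] [Module.Finite R B]
    [Algebra.Etale R A] [Algebra.Etale R B] (f : A →ₐ[R] B) (hf : Function.Injective f)
    (hr : ∀ P : PrimeSpectrum R, Module.rankAtStalk A P = Module.rankAtStalk B P) :
    Function.Bijective f := by
  letI := f.toRingHom.toAlgebra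
  haveI : IsScalarTower R A B := .of_algebraMap_eq fun r => (f.commutes r).symm
  haveI : Module.Finite A B := Module.Finite.of_restrictScalars_finite R A B
  haveI : Algebra.Etale A B := Algebra.Etale.of_restrictScalars R A B
  haveI : Module.FaithfullyFlat A B := ff_of_injective A B hf
  refine ⟨hf, ?_⟩
  let C := B ⧸ LinearMap.range f.toLinearMap
  suffices hC : Subsingleton C by
    rw [Submodule.Quotient.subsingleton_iff, LinearMap.range_eq_top] at hC
    exact hC
  rw [← Module.support_eq_empty_iff (R := R), Set.eq_empty_iff_forall_notMem]
  intro P hP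
  rw [Module.mem_support_iff_nontrivial_residueField_tensorProduct] at hP
  set κ := P.asIdeal.ResidueField
  -- the fibre of `f` is injective
  have hinj : Function.Injective (f.toLinearMap.rTensor κ) := by
    refine (injective_iff_map_eq_zero _).mpr fun z hz => ?_
    have key : ∀ z : A ⊗[R] κ,
        AlgebraTensorModule.cancelBaseChange R A A B κ ((1 : B) ⊗ₜ[A] z) =
          f.toLinearMap.rTensor κ z := by
      intro z
      induction z using TensorProduct.induction_on with
      | zero => simp
      | tmul a k =>
          rw [AlgebraTensorModule.cancelBaseChange_tmul, LinearMap.rTensor_tmul]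
          show (a • (1 : B)) ⊗ₜ[R] k = f a ⊗ₜ[R] k
          rw [Algebra.smul_def, mul_one]
          rfl
      | add x y hx hy => simp only [TensorProduct.tmul_add, map_add, hx, hy]
    have := (AlgebraTensorModule.cancelBaseChange R A A B κ).map_eq_zero_iff.mp ((key z).trans hz)
    exact (Module.FaithfullyFlat.one_tmul_eq_zero_iff (R := A) (A := B) (M := A ⊗[R] κ) z).mp this
  have hinj' : Function.Injective (f.toLinearMap.baseChange κ) := by
    have : ∀ z, f.toLinearMap.baseChange κ z =
        (TensorProduct.comm R κ B).symm (f.toLinearMap.rTensor κ (TensorProduct.comm R κ A z)) := by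
      intro z
      induction z using TensorProduct.induction_on with
      | zero => simp
      | tmul k a => simp
      | add x y hx hy => simp only [map_add, hx, hy]
    intro a b hab
    rw [this, this] at hab
    exact (TensorProduct.comm R κ A).injective (hinj ((TensorProduct.comm R κ B).symm.injective hab))
  have hfin : Module.finrank κ (κ ⊗[R] A) = Module.finrank κ (κ ⊗[R] B) := by
    have := hr P
    rwa [Module.rankAtStalk_eq, Module.rankAtStalk_eq] at this
  have hsurj : Function.Surjective (f.toLinearMap.baseChange κ) :=
    ((LinearMap.injective_iff_surjective_of_finrank_eq_finrank hfin).mp hinj')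
  have hsub : Subsingleton (κ ⊗[R] C) := by
    refine subsingleton_of_forall_eq 0 fun w => ?_
    obtain ⟨v, rfl⟩ := LinearMap.lTensor_surjective κ
      (LinearMap.range f.toLinearMap).mkQ_surjective w
    obtain ⟨z, rfl⟩ := hsurj v
    induction z using TensorProduct.induction_on with
    | zero => simp
    | tmul k a =>
        rw [LinearMap.baseChange_tmul, LinearMap.lTensor_tmul,
          show (LinearMap.range f.toLinearMap).mkQ (f.toLinearMap a) = 0 from
            (Submodule.Quotient.mk_eq_zero _).mpr ⟨a, rfl⟩, TensorProduct.tmul_zero]
    | add x y hx hy => rw [map_add, map_add, hx, hy, add_zero]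
  exact not_subsingleton _ hsub

end SchFinLib
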