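import Groth.Agent.SchFinLib.Points
import Groth.Agent.SchFinLib.Conn
import Mathlib.CategoryTheory.Galois.Basic
import Mathlib.CategoryTheory.Limits.Constructions.FiniteProductsOfBinaryProducts
import Mathlib.CategoryTheory.Limits.Preserves.Shapes.BinaryProducts
import Mathlib.CategoryTheory.Limits.Preserves.Shapes.Pullbacks
import Mathlib.CategoryTheory.Limits.Preserves.Shapes.Terminal
import Mathlib.CategoryTheory.Limits.Shapes.Opposites.Pullbacks

/-!
# The fibre functor at a geometric point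
-/

set_option autoImplicit false
set_option linter.style.haveILetI false

open TensorProduct CategoryTheory CategoryTheory.Limits Opposite

namespace SchFinLib

open SchFin

universe u

variable {X : RSpace.{u}} {Ω : Type u} [Field Ω] [IsAlgClosed Ω] (ξ : GeomPt X Ω)

/-- The points of an algebra over a geometric point. -/
def Pts (A : Alg X) : Type u :=
  {φ : A.carrier ξ.base →+* Ω // ∀ a, φ (algebraMap (X.ring ξ.base) (A.carrier ξ.base) a) =
    ξ.toField a}

/-- Pulling back points. -/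
def ptsMap {A B : Alg X} (f : A ⟶ B) (φ : Pts ξ B) : Pts ξ A :=
  ⟨φ.1.comp (f.app ξ.base).toRingHom, fun a => by
    show φ.1 (f.app ξ.base (algebraMap _ _ a)) = _
    rw [AlgHom.commutes, φ.2]⟩

theorem ptsMap_apply {A B : Alg X} (f : A ⟶ B) (φ : Pts ξ B) (a : A.carrier ξ.base) :
    (ptsMap ξ f φ).1 a = φ.1 (f.app ξ.base a) := rfl

theorem pts_ext {A : Alg X} {φ ψ : Pts ξ A} (h : ∀ a, φ.1 a = ψ.1 a) : φ = ψ :=
  Subtype.ext (RingHom.ext h)

/-- A point as a map out of the fibre algebra. -/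
noncomputable def ptsHom {A : Alg X} (φ : Pts ξ A) :
    letI : Algebra (X.ring ξ.base) Ω := ξ.toField.toAlgebra
    Ω ⊗[X.ring ξ.base] A.carrier ξ.base →ₐ[Ω] Ω :=
  letI : Algebra (X.ring ξ.base) Ω := ξ.toField.toAlgebra
  Algebra.TensorProduct.lift (AlgHom.id Ω Ω)
    ({ φ.1 with commutes' := φ.2 } : A.carrier ξ.base →ₐ[X.ring ξ.base] Ω)
    fun _ _ => Commute.all _ _

/-- The prime of the fibre algebra attached to a point. -/
noncomputable def toFib {A : Alg X} (φ : Pts ξ A) : ξ.Fib A := by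
  letI : Algebra (X.ring ξ.base) Ω := ξ.toField.toAlgebra
  exact (⟨RingHom.ker (ptsHom ξ φ), RingHom.ker_isPrime _⟩ : PrimeSpectrum _)

theorem toFib_bijective (A : Alg X) [Module.Finite (X.ring ξ.base) (A.carrier ξ.base)] :
    Function.Bijective (toFib ξ (A := A)) := by
  letI : Algebra (X.ring ξ.base) Ω := ξ.toField.toAlgebra
  refine (point_ker_bijective Ω (Ω ⊗[X.ring ξ.base] A.carrier ξ.base)).comp (f := ptsHom ξ)
    ⟨fun φ ψ h => pts_ext ξ fun a => ?_, fun Φ => ?_⟩
  · have := DFunLike.congr_fun h ((1 : Ω) ⊗ₜ a)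
    simpa [ptsHom] using this
  · refine ⟨⟨(Φ.toRingHom.comp (Algebra.TensorProduct.includeRight (R := X.ring ξ.base) (A := Ω)
      (B := A.carrier ξ.base)).toRingHom), fun a => ?_⟩, ?_⟩
    · show Φ (1 ⊗ₜ algebraMap (X.ring ξ.base) (A.carrier ξ.base) a) = _
      rw [← Algebra.TensorProduct.algebraMap_apply',
        IsScalarTower.algebraMap_apply (X.ring ξ.base) Ω, Φ.commutes]
      rfl
    · refine Algebra.TensorProduct.ext (Subsingleton.elim _ _) (AlgHom.ext fun a => ?_)
      simp [ptsHom]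

theorem fibMap_toFib {A B : Alg X} (f : A ⟶ B) (φ : Pts ξ B) :
    ξ.fibMap f (toFib ξ φ) = toFib ξ (ptsMap ξ f φ) := by
  letI : Algebra (X.ring ξ.base) Ω := ξ.toField.toAlgebra
  refine PrimeSpectrum.ext (Ideal.ext fun z => ?_)
  show Algebra.TensorProduct.map (AlgHom.id Ω Ω) (f.app ξ.base) z ∈ RingHom.ker (ptsHom ξ φ) ↔
    z ∈ RingHom.ker (ptsHom ξ (ptsMap ξ f φ))
  have : (ptsHom ξ φ).comp (Algebra.TensorProduct.map (AlgHom.id Ω Ω) (f.app ξ.base)) =
      ptsHom ξ (ptsMap ξ f φ) := by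
    refine Algebra.TensorProduct.ext (Subsingleton.elim _ _) (AlgHom.ext fun a => ?_)
    simp [ptsHom]
    rfl
  rw [RingHom.mem_ker, RingHom.mem_ker, ← this]
  rfl

/-- Points as the fibre. -/
noncomputable def fibEquiv (A : FEt X) : Pts ξ A.obj ≃ ξ.Fib A.obj :=
  Equiv.ofBijective (toFib ξ) (toFib_bijective ξ A.obj)

theorem fibEquiv_natural {A B : FEt X} (f : A ⟶ B) (φ : Pts ξ B.obj) :
    ξ.fibMap f.hom (fibEquiv ξ B φ) = fibEquiv ξ A (ptsMap ξ f.hom φ) :=
  fibMap_toFib ξ f.hom φ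

theorem fibMap_eq_iff {A B : FEt X} (f : A ⟶ B) (φ : Pts ξ B.obj) (ψ : Pts ξ A.obj) :
    ξ.fibMap f.hom (fibEquiv ξ B φ) = fibEquiv ξ A ψ ↔ ptsMap ξ f.hom φ = ψ := by
  rw [fibEquiv_natural]
  exact (fibEquiv ξ A).apply_eq_iff_eq

/-! ### Behaviour on the basic constructions -/

theorem fib_str : ∃ x : ξ.Fib (Alg.str X), ∀ y, y = x := by
  haveI : Module.Finite (X.ring ξ.base) ((Alg.str X).carrier ξ.base) :=
    (inferInstance : Module.Finite (X.ring ξ.base) (X.ring ξ.base))
  refine ⟨toFib ξ (A := Alg.str X) ⟨ξ.toField, fun a => rfl⟩, fun y => ?_⟩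
  obtain ⟨φ, rfl⟩ := (toFib_bijective ξ (Alg.str X)).2 y
  exact congrArg (toFib ξ) (pts_ext ξ fun a => φ.2 a)

theorem fib_push {A B C : FEt X} (f : A ⟶ B) (g : A ⟶ C) (P : FEt X)
    (hP : P.obj = pushAlg f.hom g.hom) (il : B ⟶ P) (ir : C ⟶ P)
    (hil : HEq il.hom (pushInlHom f.hom g.hom)) (hir : HEq ir.hom (pushInrHom f.hom g.hom))
    (b : ξ.Fib B.obj) (c : ξ.Fib C.obj) (h : ξ.fibMap f.hom b = ξ.fibMap g.hom c) :
    ∃! x : ξ.Fib P.obj, ξ.fibMap il.hom x = b ∧ ξ.fibMap ir.hom x = c := by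
  obtain ⟨P, hPP⟩ := P
  obtain ⟨il⟩ := il
  obtain ⟨ir⟩ := ir
  subst hP
  cases eq_of_heq hil
  cases eq_of_heq hir
  let P : FEt X := ⟨pushAlg f.hom g.hom, hPP⟩
  obtain ⟨β, rfl⟩ := (fibEquiv ξ B).surjective b
  obtain ⟨γ, rfl⟩ := (fibEquiv ξ C).surjective c
  rw [fibEquiv_natural, fibEquiv_natural, (fibEquiv ξ A).apply_eq_iff_eq] at h
  have hag : ∀ a, β.1 (f.hom.app ξ.base a) = γ.1 (g.hom.app ξ.base a) := fun a =>
    RingHom.congr_fun (congrArg Subtype.val h) a
  let π : Pts ξ P.obj := ⟨pushDesc f.hom g.hom ξ.base β.1 γ.1 hag, fun a =>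
    (pushDesc_inl f.hom g.hom ξ.base _ _ hag _).trans (β.2 a)⟩
  refine ⟨fibEquiv ξ P π, ⟨?_, ?_⟩, fun y hy => ?_⟩
  · exact (fibMap_eq_iff ξ (A := B) (B := P) ⟨pushInlHom f.hom g.hom⟩ π β).mpr
      (pts_ext ξ fun x => pushDesc_inl f.hom g.hom ξ.base _ _ hag x)
  · exact (fibMap_eq_iff ξ (A := C) (B := P) ⟨pushInrHom f.hom g.hom⟩ π γ).mpr
      (pts_ext ξ fun x => pushDesc_inr f.hom g.hom ξ.base _ _ hag x)
  · obtain ⟨ρ, rfl⟩ := (fibEquiv ξ P).surjective y
    refine congrArg _ (Subtype.ext (push_ext f.hom g.hom ξ.base (fun x => ?_) (fun x => ?_)))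
    · refine Eq.trans ?_ (pushDesc_inl f.hom g.hom ξ.base _ _ hag x).symm
      exact RingHom.congr_fun (congrArg Subtype.val
        ((fibMap_eq_iff ξ (A := B) (B := P) ⟨pushInlHom f.hom g.hom⟩ ρ β).mp hy.1)) x
    · refine Eq.trans ?_ (pushDesc_inr f.hom g.hom ξ.base _ _ hag x).symm
      exact RingHom.congr_fun (congrArg Subtype.val
        ((fibMap_eq_iff ξ (A := C) (B := P) ⟨pushInrHom f.hom g.hom⟩ ρ γ).mp hy.2)) x

theorem pts_zero (φ : Pts ξ (zeroAlg X)) : False := by
  have h : (1 : (zeroAlg X).carrier ξ.base) = 0 := (zeroAlg_subsingleton ξ.base).elim _ _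
  have := congrArg φ.1 h
  rw [map_one, map_zero] at this
  exact one_ne_zero this

/-- For a pointwise bijective pair, points split as a disjoint union. -/
theorem pts_fan {P A B : FEt X} (f : P ⟶ A) (g : P ⟶ B)
    (h : Function.Bijective ((app f ξ.base).prod (app g ξ.base))) :
    Function.Bijective (Sum.elim (ptsMap ξ f.hom) (ptsMap ξ g.hom)) := by
  let pr := AlgEquiv.ofBijective ((app f ξ.base).prod (app g ξ.base)) h
  let e : P.obj.carrier ξ.base := pr.symm (1, 0)
  have hef : app f ξ.base e = 1 := congrArg Prod.fst (pr.apply_symm_apply (1, 0))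
  have heg : app g ξ.base e = 0 := congrArg Prod.snd (pr.apply_symm_apply (1, 0))
  have hfs : Function.Surjective (app f ξ.base) := fun a =>
    ⟨pr.symm (a, 0), congrArg Prod.fst (pr.apply_symm_apply (a, 0))⟩
  have hgs : Function.Surjective (app g ξ.base) := fun b =>
    ⟨pr.symm (0, b), congrArg Prod.snd (pr.apply_symm_apply (0, b))⟩
  refine ⟨?_, fun φ => ?_⟩
  · rintro (α | β) (α' | β') hh
    · refine congrArg Sum.inl (pts_ext ξ fun a => ?_)
      obtain ⟨x, rfl⟩ := hfs a
      exact RingHom.congr_fun (congrArg Subtype.val hh) x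
    · have := RingHom.congr_fun (congrArg Subtype.val hh) e
      change α.1 (app f ξ.base e) = β'.1 (app g ξ.base e) at this
      rw [hef, heg, map_one, map_zero] at this
      exact absurd this one_ne_zero
    · have := RingHom.congr_fun (congrArg Subtype.val hh) e
      change β.1 (app g ξ.base e) = α'.1 (app f ξ.base e) at this
      rw [hef, heg, map_one, map_zero] at this
      exact absurd this zero_ne_one
    · refine congrArg Sum.inr (pts_ext ξ fun b => ?_)
      obtain ⟨x, rfl⟩ := hgs b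
      exact RingHom.congr_fun (congrArg Subtype.val hh) x
  · have he : IsIdempotentElem e := by
      refine h.1 (Prod.ext ?_ ?_)
      · show app f ξ.base (e * e) = app f ξ.base e
        rw [map_mul, hef, one_mul]
      · show app g ξ.base (e * e) = app g ξ.base e
        rw [map_mul, heg, zero_mul]
    rcases IsIdempotentElem.iff_eq_zero_or_one.mp (he.map φ.1) with h0 | h1
    · have hker : ∀ x, app g ξ.base x = 0 → φ.1 x = 0 := fun x hx => by
        have : e * x = x := h.1 (Prod.ext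
          (by show app f ξ.base (e * x) = app f ξ.base x; rw [map_mul, hef, one_mul])
          (by show app g ξ.base (e * x) = app g ξ.base x; rw [map_mul, heg, zero_mul, hx]))
        rw [← this, map_mul, h0, zero_mul]
      let ψ : B.obj.carrier ξ.base →+* Ω := RingHom.liftOfSurjective (app g ξ.base).toRingHom hgs
        ⟨φ.1, fun x hx => hker x hx⟩
      have hψ : ∀ x, ψ (app g ξ.base x) = φ.1 x := fun x =>
        RingHom.liftOfRightInverse_comp_apply _ _ _ ⟨φ.1, fun x hx => hker x hx⟩ x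
      exact ⟨Sum.inr ⟨ψ, fun a => by rw [← (app g ξ.base).commutes, hψ, φ.2]⟩,
        pts_ext ξ fun x => hψ x⟩
    · have hker : ∀ x, app f ξ.base x = 0 → φ.1 x = 0 := fun x hx => by
        have : e * x = 0 := h.1 (Prod.ext
          (by show app f ξ.base (e * x) = app f ξ.base 0; rw [map_mul, hx, mul_zero, map_zero])
          (by show app g ξ.base (e * x) = app g ξ.base 0; rw [map_mul, heg, zero_mul, map_zero]))
        have h2 := congrArg φ.1 this
        rwa [map_mul, h1, one_mul, map_zero] at h2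
      let ψ : A.obj.carrier ξ.base →+* Ω := RingHom.liftOfSurjective (app f ξ.base).toRingHom hfs
        ⟨φ.1, fun x hx => hker x hx⟩
      have hψ : ∀ x, ψ (app f ξ.base x) = φ.1 x := fun x =>
        RingHom.liftOfRightInverse_comp_apply _ _ _ ⟨φ.1, fun x hx => hker x hx⟩ x
      exact ⟨Sum.inl ⟨ψ, fun a => by rw [← (app f ξ.base).commutes, hψ, φ.2]⟩,
        pts_ext ξ fun x => hψ x⟩

theorem fib_fan {P A B : FEt X} (f : P ⟶ A) (g : P ⟶ B)
    (h : Function.Bijective ((app f ξ.base).prod (app g ξ.base))) :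
    Function.Bijective (Sum.elim (ξ.fibMap f.hom) (ξ.fibMap g.hom)) := by
  have : Sum.elim (ξ.fibMap f.hom) (ξ.fibMap g.hom) = fibEquiv ξ P ∘
      Sum.elim (ptsMap ξ f.hom) (ptsMap ξ g.hom) ∘
      Sum.map (fibEquiv ξ A).symm (fibEquiv ξ B).symm := by
    funext x
    rcases x with a | b
    · obtain ⟨α, rfl⟩ := (fibEquiv ξ A).surjective a
      simp [fibEquiv_natural]
    · obtain ⟨β, rfl⟩ := (fibEquiv ξ B).surjective b
      simp [fibEquiv_natural]
  rw [this]
  exact (fibEquiv ξ P).bijective.comp ((pts_fan ξ f g h).comp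
    ((Equiv.sumCongr (fibEquiv ξ A).symm (fibEquiv ξ B).symm).bijective))

theorem fibMap_surjective_of_injective {A B : FEt X} (f : A ⟶ B)
    (hf : Function.Injective (app f ξ.base)) : Function.Surjective (ξ.fibMap f.hom) := by
  intro a
  obtain ⟨α, rfl⟩ := (fibEquiv ξ A).surjective a
  letI := (app f ξ.base).toRingHom.toAlgebra
  haveI : IsScalarTower (X.ring ξ.base) (A.obj.carrier ξ.base) (B.obj.carrier ξ.base) :=
    .of_algebraMap_eq fun r => ((app f ξ.base).commutes r).symm
  haveI : Module.Finite (A.obj.carrier ξ.base) (B.obj.carrier ξ.base) :=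
    Module.Finite.of_restrictScalars_finite (X.ring ξ.base) _ _
  haveI : Algebra.Etale (A.obj.carrier ξ.base) (B.obj.carrier ξ.base) :=
    Algebra.Etale.of_restrictScalars (X.ring ξ.base) _ _
  haveI : Module.FaithfullyFlat (A.obj.carrier ξ.base) (B.obj.carrier ξ.base) :=
    ff_of_injective _ _ hf
  letI : Algebra (A.obj.carrier ξ.base) Ω := α.1.toAlgebra
  haveI : Nontrivial (Ω ⊗[A.obj.carrier ξ.base] B.obj.carrier ξ.base) :=
    (Module.FaithfullyFlat.nontrivial_tensorProduct_iff_left (R := A.obj.carrier ξ.base) (M := Ω)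
      (N := B.obj.carrier ξ.base)).mpr inferInstance
  obtain ⟨Φ⟩ := exists_point Ω (Ω ⊗[A.obj.carrier ξ.base] B.obj.carrier ξ.base)
  let β : Pts ξ B.obj := ⟨Φ.toRingHom.comp (Algebra.TensorProduct.includeRight
      (R := A.obj.carrier ξ.base) (A := Ω) (B := B.obj.carrier ξ.base)).toRingHom, fun r => by
    show Φ (1 ⊗ₜ algebraMap (X.ring ξ.base) (B.obj.carrier ξ.base) r) = _
    rw [IsScalarTower.algebraMap_apply (X.ring ξ.base) (A.obj.carrier ξ.base)
      (B.obj.carrier ξ.base), ← Algebra.TensorProduct.algebraMap_apply',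
      IsScalarTower.algebraMap_apply (A.obj.carrier ξ.base) Ω, Φ.commutes]
    exact α.2 r⟩
  refine ⟨fibEquiv ξ B β, (fibMap_eq_iff ξ f β α).mpr (pts_ext ξ fun x => ?_)⟩
  show Φ (1 ⊗ₜ algebraMap (A.obj.carrier ξ.base) (B.obj.carrier ξ.base) x) = α.1 x
  rw [← Algebra.TensorProduct.algebraMap_apply', IsScalarTower.algebraMap_apply (A.obj.carrier ξ.base) Ω,
    Φ.commutes]
  rfl

/-! ### Ranks -/

theorem rankAtStalk_const (hX : X.IsFinSp) (hW : X.IsWellConnected) (A : FEt X) (p q : X.pt)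
    (P : PrimeSpectrum (X.ring p)) (Q : PrimeSpectrum (X.ring q)) :
    Module.rankAtStalk (A.obj.carrier p) P = Module.rankAtStalk (A.obj.carrier q) Q := by
  haveI := hX.1
  have hfp : ∀ r, Module.FinitePresentation (X.ring r) (A.obj.carrier r) := fun r =>
    Module.finitePresentation_of_finite _ _
  have hloc : ∀ r (P P' : PrimeSpectrum (X.ring r)),
      Module.rankAtStalk (A.obj.carrier r) P = Module.rankAtStalk (A.obj.carrier r) P' := by
    intro r P P'
    haveI := hfp r
    haveI : ConnectedSpace (PrimeSpectrum (X.ring r)) := hW.2 r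
    exact Module.isLocallyConstant_rankAtStalk.apply_eq_of_preconnectedSpace P P'
  haveI : ∀ r, Nonempty (PrimeSpectrum (X.ring r)) := fun r =>
    (hW.2 r).toNonempty
  let n : X.pt → ℕ := fun r =>
    Module.rankAtStalk (A.obj.carrier r) (Classical.arbitrary (PrimeSpectrum (X.ring r)))
  have hn := const_of_topConnected (isWellConnected_iff.mp hW).1 n fun a b hab => by
    letI := resAlgebra X hab
    let e := AlgEquiv.ofBijective (algBC A.obj hab) ((qcoh_iff_alg A.obj).mp A.property.1 hab)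
    show Module.rankAtStalk (A.obj.carrier a) _ = Module.rankAtStalk (A.obj.carrier b) _
    rw [← Module.rankAtStalk_eq_of_equiv e.toLinearEquiv, Module.rankAtStalk_baseChange]
    exact hloc a _ _
  exact (hloc p P _).trans ((hn p q).trans (hloc q _ Q))

theorem card_fib (A : FEt X) :
    Nat.card (ξ.Fib A.obj) =
      Module.rankAtStalk (A.obj.carrier ξ.base) ⟨RingHom.ker ξ.toField, RingHom.ker_isPrime _⟩ := by
  letI : Algebra (X.ring ξ.base) Ω := ξ.toField.toAlgebra
  have h1 : Module.rankAtStalk (Ω ⊗[X.ring ξ.base] A.obj.carrier ξ.base) (⊥ : PrimeSpectrum Ω) =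
      Module.rankAtStalk (A.obj.carrier ξ.base) ⟨RingHom.ker ξ.toField, RingHom.ker_isPrime _⟩ := by
    rw [Module.rankAtStalk_baseChange]
    congr 1
  rw [← h1, Module.rankAtStalk_eq_finrank_of_free, finrank_eq_card]
  rfl

theorem bijective_of_fib_bijective (hX : X.IsFinSp) (hW : X.IsWellConnected) {A B : FEt X}
    (f : A ⟶ B) (hb : Function.Bijective (ξ.fibMap f.hom)) (p : X.pt) :
    Function.Bijective (app f p) := by
  obtain ⟨E, hE⟩ := exists_imageFam hX f
  let D := factorObj A E.compl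
  have hD : ∀ φ : Pts ξ D.obj, False := fun φ => by
    obtain ⟨β, hβ⟩ : ∃ β, ptsMap ξ f.hom β = ptsMap ξ (toFactor A E.compl).hom φ := by
      obtain ⟨b, hb'⟩ := hb.2 (fibEquiv ξ A (ptsMap ξ (toFactor A E.compl).hom φ))
      obtain ⟨β, rfl⟩ := (fibEquiv ξ B).surjective b
      exact ⟨β, (fibMap_eq_iff ξ f β _).mp hb'⟩
    have := RingHom.congr_fun (congrArg Subtype.val hβ) (E.e ξ.base)
    rw [ptsMap_apply, ptsMap_apply,
      show app (toFactor A E.compl) ξ.base (E.e ξ.base) = 0 from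
        (toFactor_eq_zero_iff A E.compl ξ.base _).mpr (by
          show (1 - E.e ξ.base) * E.e ξ.base = 0
          rw [sub_mul, one_mul, (E.idem ξ.base).eq, sub_self]),
      map_zero, show f.hom.app ξ.base (E.e ξ.base) = 1 from (hE ξ.base).map_one, map_one] at this
    exact one_ne_zero this
  have hDcard : Nat.card (ξ.Fib D.obj) = 0 := by
    haveI : IsEmpty (ξ.Fib D.obj) := ⟨fun x => hD ((fibEquiv ξ D).symm x)⟩
    exact Nat.card_of_isEmpty
  haveI := hX.1
  have hinj : ∀ r, Function.Injective (app f r) := fun r => by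
    haveI : Subsingleton (D.obj.carrier r) := by
      rw [← Module.rankAtStalk_eq_zero_iff_subsingleton (R := X.ring r)]
      funext P
      rw [rankAtStalk_const hX hW D r ξ.base P ⟨RingHom.ker ξ.toField, RingHom.ker_isPrime _⟩,
        ← card_fib, hDcard]
      rfl
    refine (injective_iff_map_eq_zero (app f r)).mpr fun a ha => ?_
    have h1 : (1 - E.e r) * a = 0 :=
      (toFactor_eq_zero_iff A E.compl r a).mp (Subsingleton.elim (α := D.obj.carrier r) _ _)
    have h2 : E.e r * a = 0 := (hE r).ker_le a ha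
    linear_combination h1 + h2
  refine bijective_of_injective_rank (app f p) (hinj p) fun P => ?_
  rw [rankAtStalk_const hX hW A p ξ.base P ⟨RingHom.ker ξ.toField, RingHom.ker_isPrime _⟩,
    rankAtStalk_const hX hW B p ξ.base P ⟨RingHom.ker ξ.toField, RingHom.ker_isPrime _⟩,
    ← card_fib, ← card_fib]
  exact (Nat.card_eq_of_bijective _ hb).symm

theorem reflectsIsomorphisms (hX : X.IsFinSp) (hW : X.IsWellConnected) :
    ξ.fibFunctor.ReflectsIsomorphisms where
  reflects {A B} f hiso := by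
    have hb : Function.Bijective (ξ.fibMap f.unop.hom) :=
      (ConcreteCategory.isIso_iff_bijective (ξ.fibFunctor.map f)).mp hiso
    haveI := isIso_fet_of_bijective f.unop fun p => bijective_of_fib_bijective ξ hX hW f.unop hb p
    rw [← Quiver.Hom.op_unop f]
    infer_instance

end SchFinLib
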