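import Groth.Prelude.Def_SchFin2
import Mathlib.RingTheory.IsTensorProduct

/-!
# Quasi-coherent algebras: the base-change maps
-/

set_option autoImplicit false
set_option linter.style.haveILetI false

open TensorProduct

namespace SchFinLib

open SchFin CategoryTheory

universe u

variable {X : RSpace.{u}}

/-- The ring of a larger point as an algebra over the ring of a smaller one. -/
@[reducible] def resAlgebra (X : RSpace.{u}) {p q : X.pt} (h : p ≤ q) :
    Algebra (X.ring p) (X.ring q) :=
  (X.res h).toAlgebra

/-- The comparison map of the base change of a module along `p ≤ q`. -/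
noncomputable def omodBC (M : OMod X) {p q : X.pt} (h : p ≤ q) :
    letI := resAlgebra X h
    X.ring q ⊗[X.ring p] M.carrier p →ₗ[X.ring q] M.carrier q :=
  letI := resAlgebra X h
  letI : Module (X.ring p) (M.carrier q) := Module.compHom _ (X.res h)
  haveI : IsScalarTower (X.ring p) (X.ring q) (M.carrier q) :=
    IsScalarTower.of_algebraMap_smul fun _ _ => rfl
  ({ toFun := M.res h, map_add' := (M.res h).map_add, map_smul' := (M.res h).map_smulₛₗ } :
    M.carrier p →ₗ[X.ring p] M.carrier q).liftBaseChange (X.ring q)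

theorem omodBC_tmul (M : OMod X) {p q : X.pt} (h : p ≤ q) (s : X.ring q) (m : M.carrier p) :
    letI := resAlgebra X h
    omodBC M h (s ⊗ₜ m) = s • M.res h m := by
  letI := resAlgebra X h
  letI : Module (X.ring p) (M.carrier q) := Module.compHom _ (X.res h)
  haveI : IsScalarTower (X.ring p) (X.ring q) (M.carrier q) :=
    IsScalarTower.of_algebraMap_smul fun _ _ => rfl
  simp [omodBC]

theorem isBCAlong_iff (M : OMod X) {p q : X.pt} (h : p ≤ q) :
    IsBCAlong (X.res h) (M.res h) ↔ Function.Bijective (omodBC M h) := by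
  letI := resAlgebra X h
  letI : Module (X.ring p) (M.carrier q) := Module.compHom _ (X.res h)
  haveI : IsScalarTower (X.ring p) (X.ring q) (M.carrier q) :=
    IsScalarTower.of_algebraMap_smul fun _ _ => rfl
  let f : M.carrier p →ₗ[X.ring p] M.carrier q :=
    { toFun := M.res h, map_add' := (M.res h).map_add, map_smul' := (M.res h).map_smulₛₗ }
  constructor
  · intro hbc
    have hF : IsBaseChange (X.ring q) f := hbc
    have : ∀ z, omodBC M h z = hF.equiv z := fun z => by
      induction z using TensorProduct.induction_on with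
      | zero => simp
      | tmul s m => rw [omodBC_tmul, IsBaseChange.equiv_tmul]; rfl
      | add x y hx hy => rw [map_add, map_add, hx, hy]
    rw [show ⇑(omodBC M h) = ⇑hF.equiv from funext this]
    exact hF.equiv.bijective
  · intro hb
    exact IsBaseChange.of_equiv (f := f) (LinearEquiv.ofBijective (omodBC M h) hb) fun m => by
      show omodBC M h (1 ⊗ₜ m) = _
      rw [omodBC_tmul, one_smul]
      rfl

theorem qcoh_iff (A : Alg X) :
    A.IsQcoh ↔ ∀ {p q : X.pt} (h : p ≤ q), Function.Bijective (omodBC A.toMod h) :=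
  ⟨fun hA _ _ h => (isBCAlong_iff _ h).mp (hA _ _ h),
    fun hA _ _ h => (isBCAlong_iff _ h).mpr (hA h)⟩

/-- The comparison map of the base change of an algebra along `p ≤ q`. -/
noncomputable def algBC (A : Alg X) {p q : X.pt} (h : p ≤ q) :
    letI := resAlgebra X h
    X.ring q ⊗[X.ring p] A.carrier p →ₐ[X.ring q] A.carrier q :=
  letI := resAlgebra X h
  letI : Algebra (X.ring p) (A.carrier q) :=
    ((algebraMap (X.ring q) (A.carrier q)).comp (X.res h)).toAlgebra
  haveI : IsScalarTower (X.ring p) (X.ring q) (A.carrier q) := .of_algebraMap_eq fun _ => rfl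
  Algebra.TensorProduct.lift (Algebra.ofId (X.ring q) (A.carrier q))
    ({ A.res h with commutes' := A.res_algebraMap h } : A.carrier p →ₐ[X.ring p] A.carrier q)
    fun _ _ => Commute.all _ _

theorem algBC_tmul (A : Alg X) {p q : X.pt} (h : p ≤ q) (s : X.ring q) (a : A.carrier p) :
    letI := resAlgebra X h
    algBC A h (s ⊗ₜ a) = algebraMap (X.ring q) (A.carrier q) s * A.res h a := by
  letI := resAlgebra X h
  letI : Algebra (X.ring p) (A.carrier q) :=
    ((algebraMap (X.ring q) (A.carrier q)).comp (X.res h)).toAlgebra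
  haveI : IsScalarTower (X.ring p) (X.ring q) (A.carrier q) := .of_algebraMap_eq fun _ => rfl
  simp [algBC]

theorem algBC_eq (A : Alg X) {p q : X.pt} (h : p ≤ q) :
    letI := resAlgebra X h
    ∀ z : X.ring q ⊗[X.ring p] A.carrier p, algBC A h z = omodBC A.toMod h z := by
  letI := resAlgebra X h
  intro z
  induction z using TensorProduct.induction_on with
  | zero => rw [map_zero]; exact (map_zero (omodBC A.toMod h)).symm
  | tmul s a =>
      rw [algBC_tmul, ← Algebra.smul_def]
      exact (omodBC_tmul A.toMod h s a).symm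
  | add x y hx hy =>
      rw [map_add, hx, hy]
      exact ((omodBC A.toMod h).map_add x y).symm

theorem qcoh_iff_alg (A : Alg X) :
    A.IsQcoh ↔ ∀ {p q : X.pt} (h : p ≤ q), Function.Bijective (algBC A h) := by
  rw [qcoh_iff]
  refine ⟨fun hA p q h => ?_, fun hA p q h => ?_⟩
  · rw [show ⇑(algBC A h) = ⇑(omodBC A.toMod h) from funext (algBC_eq A h)]
    exact hA h
  · rw [show ⇑(omodBC A.toMod h) = ⇑(algBC A h) from (funext (algBC_eq A h)).symm]
    exact hA h

/-- Algebra maps out of the larger point are determined on the smaller point. -/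
theorem bc_ext {A : Alg X} (hA : A.IsQcoh) {p q : X.pt} (h : p ≤ q) {T : Type u} [CommRing T]
    [Algebra (X.ring q) T] (f g : A.carrier q →ₐ[X.ring q] T)
    (hfg : ∀ a, f (A.res h a) = g (A.res h a)) : f = g := by
  letI := resAlgebra X h
  refine AlgHom.ext fun b => ?_
  obtain ⟨z, rfl⟩ := ((qcoh_iff_alg A).mp hA h).2 b
  induction z using TensorProduct.induction_on with
  | zero => simp
  | tmul s a => rw [algBC_tmul, map_mul, map_mul, f.commutes, g.commutes, hfg]
  | add x y hx hy => simp only [map_add, hx, hy]

/-- An algebra map out of the larger point from one out of the smaller point. -/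
theorem bc_lift {A : Alg X} (hA : A.IsQcoh) {p q : X.pt} (h : p ≤ q) {T : Type u} [CommRing T]
    [Algebra (X.ring q) T] (f : A.carrier p →+* T)
    (hf : ∀ a : X.ring p, f (algebraMap (X.ring p) (A.carrier p) a) =
      algebraMap (X.ring q) T (X.res h a)) :
    ∃ F : A.carrier q →ₐ[X.ring q] T, ∀ a, F (A.res h a) = f a := by
  letI := resAlgebra X h
  letI : Algebra (X.ring p) T := ((algebraMap (X.ring q) T).comp (X.res h)).toAlgebra
  haveI : IsScalarTower (X.ring p) (X.ring q) T := .of_algebraMap_eq fun _ => rfl
  let e := AlgEquiv.ofBijective (algBC A h) ((qcoh_iff_alg A).mp hA h)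
  let L := Algebra.TensorProduct.lift (Algebra.ofId (X.ring q) T)
    ({ f with commutes' := hf } : A.carrier p →ₐ[X.ring p] T) fun _ _ => Commute.all _ _
  refine ⟨L.comp e.symm.toAlgHom, fun a => ?_⟩
  have : e (1 ⊗ₜ a) = A.res h a := by
    show algBC A h (1 ⊗ₜ a) = _
    rw [algBC_tmul, map_one, one_mul]
  show L (e.symm (A.res h a)) = f a
  rw [← this, e.symm_apply_apply]
  simp [L]

/-- A morphism of algebras is an isomorphism as soon as it is bijective at every point. -/
theorem isIso_of_bijective {A B : Alg X} (f : A ⟶ B) (hf : ∀ p, Function.Bijective (f.app p)) :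
    IsIso f := by
  let g : B ⟶ A :=
    ⟨fun p => (AlgEquiv.ofBijective (f.app p) (hf p)).symm.toAlgHom, fun {p q} h b => by
      apply (hf q).1
      obtain ⟨a, rfl⟩ := (hf p).2 b
      show f.app q (A.res h ((AlgEquiv.ofBijective (f.app p) (hf p)).symm (f.app p a))) =
        f.app q ((AlgEquiv.ofBijective (f.app q) (hf q)).symm (B.res h (f.app p a)))
      rw [AlgEquiv.ofBijective_symm_apply_apply, f.compat h a,
        AlgEquiv.ofBijective_symm_apply_apply]⟩
  refine ⟨⟨g, Alg.hom_ext _ _ fun p => AlgHom.ext fun a => ?_,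
    Alg.hom_ext _ _ fun p => AlgHom.ext fun b => ?_⟩⟩
  · exact AlgEquiv.ofBijective_symm_apply_apply (f.app p) (hf p) a
  · exact (AlgEquiv.ofBijective (f.app p) (hf p)).apply_symm_apply b

theorem isIso_fet_of_bijective {A B : FEt X} (f : A ⟶ B)
    (hf : ∀ p, Function.Bijective (f.hom.app p)) : IsIso f := by
  haveI := isIso_of_bijective f.hom hf
  exact ⟨⟨ObjectProperty.homMk (inv f.hom),
    ObjectProperty.hom_ext _ (IsIso.hom_inv_id f.hom),
    ObjectProperty.hom_ext _ (IsIso.inv_hom_id f.hom)⟩⟩

end SchFinLib
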